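import Cfsg.Agent.RankTwoClose.XSide.Abs

/-!
# The group `X = ⟨Q, Q'⟩` (type beta): all the fields of `QInput.QIn` of the side `X`

`XFields X U Q O V R m₀` = the fields of `QInput.QIn` which do not mention `L` and `A`; valid for every dimension
of `Φ`.  `exists_XFields` : from `Out`, `GIn`, `Fld`, `Ext`, with `X = Q ⊔ Q'`, `U = UX V Q Q'`, `O = OX V Q Q'`.
-/

set_option autoImplicit false
set_option linter.unusedSectionVars false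

open Subgroup

namespace Cfsg.Agent.RankTwoClose.XSide

open Cfsg.Agent.Omega.NOne.SU Cfsg.Agent.RankTwoClose.UFour

/-- The fields of `QInput.QIn` of the side `X`. -/
structure XFields {G : Type*} [Group G] (X U Q O V R : Subgroup G) (m₀ : G) : Prop where
  aX : PanOf.Abs X U O m₀
  sX : ∀ P ≤ X, IsPGroup 2 P → U ≤ P → P ≤ U
  /-- `N(V)` normalises `X` -/
  NX : normalizer (V : Set G) ≤ normalizer (X : Set G)
  /-- `N(V) ∩ N(U)` normalises `R` -/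
  XR : ∀ g ∈ normalizer (V : Set G), cj g U = U → g ∈ normalizer (R : Set G)
  RV : R ≤ V
  VU : V ≤ U
  XV : X ≤ normalizer (V : Set G)
  OV : ∀ x ∈ O, ∀ v ∈ V, x * v = v * x
  CO : ∀ u ∈ U, (∀ v ∈ V, u * v = v * u) → u ∈ O
  CX : ∀ x ∈ X, (∀ v ∈ V, x * v = v * x) → x ∈ O
  QQ : ∀ g ∈ X, cj g U ≠ U → Q ⊓ cj g Q ≤ V
  RQ : ∀ g ∈ X, cj g U ≠ U → cj g R ⊓ Q = ⊥
  VR : ∀ g ∈ X, cj g U ≠ U → V ≤ cj g R ⊔ Q
  cE : ∀ g ∈ X, cj g U ≠ U → O.relIndex U ≤ Nat.card ↥((V ⊓ Q) ⊓ cj g (V ⊓ Q))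
  tr : ∀ z₀ ∈ R, z₀ ≠ 1 → ∀ z ∈ R, z ≠ 1 → ∃ h, (∀ x ∈ Q, h * x * h⁻¹ ∈ Q) ∧ h * z₀ * h⁻¹ = z
  fixR : ∀ z ∈ R, (∀ g ∈ X, cj g U = U → g * z = z * g) → z = 1
  pair : ∃ a ∈ R, ∃ b ∈ R, a ≠ 1 ∧ b ≠ 1 ∧ a ≠ b

variable {G : Type*} [Group G] {k F : Type*} [Field k] [Field F] [Algebra k F]

/-- there is a scalar `s ≠ 0, 1` -/
theorem exists_s (T : Quad k F) : ∃ s : k, s ≠ 0 ∧ s ≠ 1 := by
  have := T.fink
  by_contra hcon
  push Not at hcon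
  have h1 : Nat.card k ≤ Nat.card Bool := by
    classical
    apply Nat.card_le_card_of_injective (fun s : k => decide (s = 0))
    intro a b hab
    simp only [decide_eq_decide] at hab
    by_cases ha : a = 0
    · rw [ha, hab.1 ha]
    · rw [hcon a ha, hcon b (fun hb => ha (hab.2 hb))]
  have h2 := T.four
  have h3 : Nat.card Bool = 2 := by simp
  omega

section gin

variable {T : Quad k F} {S : Sylow 2 G} {V R Q Q' : Subgroup G} {v : k → F → k → G} {p p' : G → F}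
  (I : GIn T S V R Q Q' v p p')
include I

theorem v_one : v 0 0 0 = 1 := by
  have h := I.v_add 0 0 0 0 0 0
  rw [add_zero, add_zero] at h
  exact left_eq_mul.1 h

/-- `N(R)` normalises `Q` -/
theorem NR_NQ : normalizer (R : Set G) ≤ normalizer (Q : Set G) := fun x hx =>
  mem_normalizer_iff.2 fun y => ⟨I.nor x hx y, fun h => by
    have := I.nor x⁻¹ (inv_mem hx) _ h
    rwa [show x⁻¹ * (x * y * x⁻¹) * x⁻¹⁻¹ = y by group] at this⟩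

/-- `V ∩ Q = {v a b 0}` -/
theorem mem_VQ {z : G} : z ∈ V ⊓ Q ↔ ∃ a b, z = v a b 0 :=
  ⟨fun h => mem_E I (mem_inf.1 h).1 (mem_inf.1 h).2, by
    rintro ⟨a, b, rfl⟩
    exact mem_inf.2 ⟨I.v_mem _ _ _, I.E_le _ _⟩⟩

theorem pair_R : ∃ a ∈ R, ∃ b ∈ R, a ≠ 1 ∧ b ≠ 1 ∧ a ≠ b := by
  obtain ⟨s, hs0, hs1⟩ := exists_s T
  refine ⟨v 1 0 0, I.sp.a_mem 1, v s 0 0, I.sp.a_mem s, fun h => ?_, fun h => ?_, fun h => ?_⟩
  · exact one_ne_zero (I.v_inj _ _ _ h).1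
  · exact hs0 (I.v_inj _ _ _ h).1
  · exact hs1 (I.v_eq h).1.symm

/-- `N(V)` normalises `X` -/
theorem NV_NX (Ex : Ext V R Q Q' p') :
    normalizer (V : Set G) ≤ normalizer ((Q ⊔ Q' : Subgroup G) : Set G) := by
  obtain ⟨n, hn, hnQ⟩ := Ex.sw
  have hnV : n ∈ normalizer (V : Set G) := X_NV I hn
  have key : ∀ m ∈ normalizer (V : Set G), ∀ y ∈ Q, m * y * m⁻¹ ∈ Q ⊔ Q' := by
    intro m hm y hy
    obtain ⟨x, hx, hxm⟩ := Ex.MX m hm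
    have h1 := I.nor _ hxm y hy
    have h2 : m * y * m⁻¹ = x⁻¹ * ((x * m) * y * (x * m)⁻¹) * x := by group
    rw [h2]
    exact mul_mem (mul_mem (inv_mem hx) (mem_sup_left h1)) hx
  have key' : ∀ m ∈ normalizer (V : Set G), ∀ y ∈ Q', m * y * m⁻¹ ∈ Q ⊔ Q' := by
    intro m hm y hy
    have h1 : n⁻¹ * y * n ∈ Q := by
      rw [hnQ]
      rwa [show n * (n⁻¹ * y * n) * n⁻¹ = y by group]
    have h2 := key (m * n) (mul_mem hm hnV) _ h1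
    rwa [show m * n * (n⁻¹ * y * n) * (m * n)⁻¹ = m * y * m⁻¹ by group] at h2
  have hle : ∀ m ∈ normalizer (V : Set G), cj m (Q ⊔ Q') ≤ Q ⊔ Q' := by
    intro m hm
    rw [cj_sup]
    refine sup_le ?_ ?_
    · rintro _ ⟨y, hy, rfl⟩
      exact key m hm y hy
    · rintro _ ⟨y, hy, rfl⟩
      exact key' m hm y hy
  intro m hm
  rw [mem_norm_iff]
  refine le_antisymm (hle m hm) fun x hx => ?_
  rw [mem_cj]
  have := hle m⁻¹ (inv_mem hm) (conj_mem_cj hx)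
  rwa [inv_inv] at this

end gin

section fld

variable {T : Quad k F} {S : Sylow 2 G} {V R Q Q' : Subgroup G} {v : k → F → k → G} {p p' : G → F}
  {Φ : Type*} [AddCommGroup Φ] [Module F Φ] {φ χ : G → Φ} [Finite G]
  (I : GIn T S V R Q Q' v p p') (D : Fld T V R Q Q' v p φ χ) (Ex : Ext V R Q Q' p')
  {m₀ : G} (M : Mz T v Q Q' m₀)

/-- `|U : O| ≤ |F|` -/
theorem relIndex_le (I : GIn T S V R Q Q' v p p') : (OX V Q Q').relIndex (UX V Q Q') ≤ Nat.card F := by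
  have := T.finF
  have key : ∀ u : UX V Q Q', ∃ l : F, ∃ y ∈ Q, ∃ b ∈ Q' ⊓ centralizer (V : Set G), (u : G) = y * b ∧ p y = l := by
    rintro ⟨u, hu⟩
    obtain ⟨y, hy, b, hb, e⟩ := (mem_UX I).1 hu
    exact ⟨p y, y, hy, b, hb, e, rfl⟩
  choose f hf using key
  have hinj : ∀ u u' : UX V Q Q', f u = f u' → u⁻¹ * u' ∈ (OX V Q Q').subgroupOf (UX V Q Q') := by
    intro u u' h
    obtain ⟨y, hy, b, hb, e1, e2⟩ := hf u
    obtain ⟨y', hy', b', hb', e1', e2'⟩ := hf u'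
    rw [mem_subgroupOf]
    have h1 : ((u⁻¹ * u' : UX V Q Q') : G) = b⁻¹ * (y⁻¹ * y') * b' := by
      rw [Subgroup.coe_mul, Subgroup.coe_inv, e1, e1']; group
    rw [h1]
    have h2 : y⁻¹ * y' ∈ Q ⊓ centralizer (V : Set G) := by
      refine mem_inf.2 ⟨mul_mem (inv_mem hy) hy', ?_⟩
      rw [← I.p_eq_zero (mul_mem (inv_mem hy) hy'), I.p_add _ (inv_mem hy) _ hy', I.p_inv hy, e2, e2', h,
        T.add_self (h2 := I.h2)]
    exact mul_mem (mul_mem (mem_sup_right (inv_mem hb)) (mem_sup_left h2)) (mem_sup_right hb')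
  show ((OX V Q Q').subgroupOf (UX V Q Q')).index ≤ _
  rw [Subgroup.index]
  apply Nat.card_le_card_of_injective (fun q : UX V Q Q' ⧸ (OX V Q Q').subgroupOf (UX V Q Q') => f q.out)
  intro q q' h
  have h1 := hinj _ _ h
  rw [← QuotientGroup.eq] at h1
  rwa [QuotientGroup.out_eq', QuotientGroup.out_eq'] at h1

include I D Ex M

/-- the conjugates by `g ∈ X - N(U)` -/
theorem cj_form {x : G} (hx : x ∈ Q ⊔ Q') (hne : cj x (UX V Q Q') ≠ UX V Q Q') :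
    ∃ y ∈ Q, cj x Q = cj y (cj m₀ Q) ∧ cj x R = cj y (cj m₀ R) ∧
      cj x (V ⊓ Q) = cj y (cj m₀ (V ⊓ Q)) := by
  obtain ⟨y, hy, x', hx', hR, rfl⟩ := form_of I D Ex M hx hne
  refine ⟨y, hy, ?_, ?_, ?_⟩
  · rw [cj_mul, cj_mul, mem_norm_iff.1 (NR_NQ I hR)]
  · rw [cj_mul, cj_mul, mem_norm_iff.1 hR]
  · rw [cj_mul, cj_mul, cj_inf x', mem_norm_iff.1 (NR_NQ I hR), mem_norm_iff.1 (X_NV I hx')]

theorem QQ {x : G} (hx : x ∈ Q ⊔ Q') (hne : cj x (UX V Q Q') ≠ UX V Q Q') : Q ⊓ cj x Q ≤ V := by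
  obtain ⟨y, hy, e, -, -⟩ := cj_form I D Ex M hx hne
  rw [e]
  intro z hz
  obtain ⟨h1, h2⟩ := mem_inf.1 hz
  rw [mem_cj, mem_cj] at h2
  have h3 : y⁻¹ * z * y ∈ Q' := by
    have := m₀_Q I D Ex M _ h2
    rwa [show m₀ * (m₀⁻¹ * (y⁻¹ * z * y) * m₀) * m₀⁻¹ = y⁻¹ * z * y by group] at this
  have h4 : y⁻¹ * z * y ∈ V := meet_V I (mem_inf.2 ⟨mul_mem (mul_mem (inv_mem hy) h1) hy, h3⟩)
  have h5 := (mem_normalizer_iff.1 (I.Q_NV hy) _).1 h4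
  rwa [show y * (y⁻¹ * z * y) * y⁻¹ = z by group] at h5

theorem mem_mR {z : G} : z ∈ cj m₀ R ↔ ∃ d, z = v 0 0 d := by
  have _ := D
  have _ := Ex
  rw [mem_cj]
  constructor
  · intro h
    obtain ⟨a, ha⟩ := I.mem_R.1 h
    refine ⟨a, ?_⟩
    have : z = m₀ * (m₀⁻¹ * z * m₀) * m₀⁻¹ := by group
    rw [this, ha, M.act, map_zero]
  · rintro ⟨d, rfl⟩
    rw [M.inv_act I, map_zero]
    exact I.sp.a_mem d

theorem RQ {x : G} (hx : x ∈ Q ⊔ Q') (hne : cj x (UX V Q Q') ≠ UX V Q Q') : cj x R ⊓ Q = ⊥ := by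
  obtain ⟨y, hy, -, e, -⟩ := cj_form I D Ex M hx hne
  rw [eq_bot_iff, e]
  intro z hz
  obtain ⟨h1, h2⟩ := mem_inf.1 hz
  rw [mem_cj] at h1
  obtain ⟨d, hd⟩ := (mem_mR I D Ex M).1 h1
  have h3 : y⁻¹ * z * y ∈ Q := mul_mem (mul_mem (inv_mem hy) h2) hy
  rw [hd] at h3
  obtain rfl := I.V_Q _ _ _ h3
  rw [v_one I] at hd
  rw [mem_bot]
  calc z = y * (y⁻¹ * z * y) * y⁻¹ := by group
    _ = 1 := by rw [hd]; group

theorem VR {x : G} (hx : x ∈ Q ⊔ Q') (hne : cj x (UX V Q Q') ≠ UX V Q Q') : V ≤ cj x R ⊔ Q := by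
  obtain ⟨y, hy, -, e, -⟩ := cj_form I D Ex M hx hne
  rw [e]
  intro z hz
  obtain ⟨a, b, d, rfl⟩ := I.v_surj z hz
  have h1 : y * v 0 0 d * y⁻¹ ∈ cj y (cj m₀ R) := conj_mem_cj ((mem_mR I D Ex M).2 ⟨d, rfl⟩)
  have h2 : v a b d = (y * v 0 0 d * y⁻¹) * ((y * v 0 0 d * y⁻¹)⁻¹ * v a b d) := by group
  rw [h2]
  refine mul_mem (mem_sup_left h1) (mem_sup_right ?_)
  rw [I.act y hy, I.v_inv, ← I.v_add, T.add_selfk (h2 := I.h2)]
  exact I.E_le _ _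

theorem cE {x : G} (hx : x ∈ Q ⊔ Q') (hne : cj x (UX V Q Q') ≠ UX V Q Q') :
    (OX V Q Q').relIndex (UX V Q Q') ≤ Nat.card ↥((V ⊓ Q) ⊓ cj x (V ⊓ Q)) := by
  obtain ⟨y, hy, -, -, e⟩ := cj_form I D Ex M hx hne
  refine (relIndex_le I).trans ?_
  rw [e]
  have h1 : ∀ b, y * v 0 b 0 * y⁻¹ ∈ (V ⊓ Q) ⊓ cj y (cj m₀ (V ⊓ Q)) := by
    intro b
    refine mem_inf.2 ⟨mem_inf.2 ⟨(mem_normalizer_iff.1 (I.Q_NV hy) _).1 (I.v_mem _ _ _),
      mul_mem (mul_mem hy (I.E_le _ _)) (inv_mem hy)⟩, conj_mem_cj ?_⟩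
    rw [mem_cj, M.inv_act I]
    exact mem_inf.2 ⟨I.v_mem _ _ _, I.E_le _ _⟩
  apply Nat.card_le_card_of_injective (fun b : F => (⟨_, h1 b⟩ : ↥((V ⊓ Q) ⊓ cj y (cj m₀ (V ⊓ Q)))))
  intro b b' h
  have h2 : y * v 0 b 0 * y⁻¹ = y * v 0 b' 0 * y⁻¹ := congrArg Subtype.val h
  exact (I.v_eq (mul_left_cancel (mul_right_cancel h2))).2.1

omit M Ex in
theorem tr {z₀ : G} (h0 : z₀ ∈ R) (h1 : z₀ ≠ 1) {z : G} (hz : z ∈ R) (hz1 : z ≠ 1) :
    ∃ h, (∀ x ∈ Q, h * x * h⁻¹ ∈ Q) ∧ h * z₀ * h⁻¹ = z := by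
  obtain ⟨a, rfl⟩ := I.mem_R.1 h0
  obtain ⟨b, rfl⟩ := I.mem_R.1 hz
  have ha : a ≠ 0 := by
    rintro rfl
    exact h1 (v_one I)
  have hb : b ≠ 0 := by
    rintro rfl
    exact hz1 (v_one I)
  obtain ⟨s, hs⟩ := nm_surj T I.h2 (b / a)
  have hs0 : s ≠ 0 := by
    rintro rfl
    rw [T.nm_zero] at hs
    exact div_ne_zero hb ha hs.symm
  obtain ⟨t, -, hv, hp, -, -⟩ := D.tor s hs0
  refine ⟨t, fun x hx => (hp x hx).1, ?_⟩
  rw [hv, hs, div_mul_cancel₀ _ ha, mul_zero, mul_zero]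

theorem fixR {z : G} (hz : z ∈ R) (h : ∀ g ∈ Q ⊔ Q', cj g (UX V Q Q') = UX V Q Q' → g * z = z * g) :
    z = 1 := by
  obtain ⟨a, rfl⟩ := I.mem_R.1 hz
  obtain ⟨c, hc0, hc1⟩ := exists_s T
  obtain ⟨s, hs⟩ := nm_surj T I.h2 c
  have hs0 : s ≠ 0 := by
    rintro rfl
    rw [T.nm_zero] at hs
    exact hc0 hs.symm
  obtain ⟨t, ht, hv, -, -, -⟩ := D.tor s hs0
  have h1 := h t ht (tor_UX I D Ex M ht hs0 hv).1
  have h2 := hv a 0 0
  rw [h1, mul_inv_cancel_right, hs] at h2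
  have h3 := (I.v_eq h2).1
  have h4 : a = 0 := by
    by_contra h5
    apply hc1
    apply mul_right_cancel₀ h5
    rw [← h3, one_mul]
  rw [h4, v_one I]

omit M in
/-- **All fields of the side `X`.** -/
theorem exists_XFields {hm : Φ → Φ → F} {W : Type*} [AddCommGroup W] [Module F W] {w : G → W}
    {g : W → W → F} {f₀ : W} {ι : Φ →ₗ[F] W} (O : Out T V R Q Q' v p φ χ hm w g f₀ ι) :
    ∃ m₀, XFields (Q ⊔ Q') (UX V Q Q') Q (OX V Q Q') V R m₀ := by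
  obtain ⟨m₀, M⟩ := exists_mz I Ex
  exact ⟨m₀,
    { aX := absX I D Ex M
      sX := fun P hP h2 hU => sylX O I D Ex P hP h2 hU
      NX := NV_NX I Ex
      XR := fun x hx h => NR_of_UX I hx h
      RV := I.R_V
      VU := (V_le_OX I).trans (OX_le_UX I)
      XV := X_NV I
      OV := fun x hx z hz => (mem_centralizer_iff.1 (OX_le_CV I hx) z hz).symm
      CO := fun u hu h => mem_OX_of I hu (mem_centralizer_iff.2 fun z hz => (h z hz).symm)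
      CX := fun u hu h => CX_le O I D Ex hu (mem_centralizer_iff.2 fun z hz => (h z hz).symm)
      QQ := fun x hx h => QQ I D Ex M hx h
      RQ := fun x hx h => RQ I D Ex M hx h
      VR := fun x hx h => VR I D Ex M hx h
      cE := fun x hx h => cE I D Ex M hx h
      tr := fun z₀ h0 h1 z hz hz1 => tr I D h0 h1 hz hz1
      fixR := fun z hz h => fixR I D Ex M hz h
      pair := pair_R I }⟩

end fld

end Cfsg.Agent.RankTwoClose.XSide
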