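import Cfsg.Agent.RankTwoClose.XSide.Point

/-!
# The group `X = ⟨Q, Q'⟩` (type beta): the fields `aX`, `sX`, ... of `QInput.QIn`
-/

set_option autoImplicit false
set_option linter.unusedSectionVars false

open Subgroup

namespace Cfsg.Agent.RankTwoClose.XSide

open Cfsg.Agent.Omega.NOne.SU Cfsg.Agent.RankTwoClose.UFour

variable {G : Type*} [Group G] {k F : Type*} [Field k] [Field F] [Algebra k F]

/-- the norm is onto -/
theorem nm_surj (T : Quad k F) (h2 : (2 : k) = 0) (c : k) : ∃ z : F, T.nm z = c := by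
  have := T.fink
  have hinj : Function.Injective (fun y : k => y * y) := by
    intro a b hab
    have h1 : (a - b) * (a - b) = 0 := by
      have h3 : (a - b) * (a - b) = a * a - b * b - 2 * (b * (a - b)) := by ring
      rw [h3, h2, zero_mul, sub_zero]
      exact sub_eq_zero.2 hab
    exact sub_eq_zero.1 (mul_self_eq_zero.1 h1)
  obtain ⟨e, he⟩ := Finite.surjective_of_injective hinj c
  refine ⟨algebraMap k F e, ?_⟩
  apply T.alg_inj'
  rw [T.nm_eq, T.sg_alg, ← map_mul]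
  exact congrArg _ he

section two

variable {T : Quad k F} {S : Sylow 2 G} {V R Q Q' : Subgroup G} {v : k → F → k → G} {p p' : G → F}
  (I : GIn T S V R Q Q' v p p') (Ex : Ext V R Q Q' p')
include I Ex

theorem Q'_two : IsPGroup 2 Q' := by
  obtain ⟨n, -, hn⟩ := Ex.sw
  rintro ⟨z, hz⟩
  have h1 : n⁻¹ * z * n ∈ Q := by
    refine (hn _).2 ?_
    rwa [show n * (n⁻¹ * z * n) * n⁻¹ = z by group]
  obtain ⟨j, hj⟩ := I.Q_two ⟨_, h1⟩
  have hj' : (n⁻¹ * z * n) ^ 2 ^ j = 1 := congrArg Subtype.val hj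
  refine ⟨j, Subtype.ext ?_⟩
  show z ^ 2 ^ j = 1
  have e : n⁻¹ * z * n = n⁻¹ * z * n⁻¹⁻¹ := by rw [inv_inv]
  rw [e, conj_pow] at hj'
  calc z ^ 2 ^ j = n * (n⁻¹ * z ^ 2 ^ j * n⁻¹⁻¹) * n⁻¹ := by group
    _ = 1 := by rw [hj']; group

theorem UX_two : IsPGroup 2 ↥(UX V Q Q') := by
  have h1 : UX V Q Q' = (Q' ⊓ centralizer (V : Set G)) ⊔ Q := sup_comm _ _
  rw [h1]
  exact IsPGroup.to_sup_of_normal_right' ((Q'_two I Ex).to_le inf_le_left) I.Q_two
    (inf_le_right.trans (CV_norm_Q I))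

end two

section fld

variable {T : Quad k F} {S : Sylow 2 G} {V R Q Q' : Subgroup G} {v : k → F → k → G} {p p' : G → F}
  {Φ : Type*} [AddCommGroup Φ] [Module F Φ] {φ χ : G → Φ} [Finite G]
  {hm : Φ → Φ → F} {W : Type*} [AddCommGroup W] [Module F W] {w : G → W}
  {g : W → W → F} {f₀ : W} {ι : Φ →ₗ[F] W}
  (O : Out T V R Q Q' v p φ χ hm w g f₀ ι)
  (I : GIn T S V R Q Q' v p p') (D : Fld T V R Q Q' v p φ χ) (Ex : Ext V R Q Q' p')
  {m₀ : G} (M : Mz T v Q Q' m₀)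

include I D Ex M in
/-- the torus moves everything -/
theorem tor_UX {t : G} (ht : t ∈ Q ⊔ Q') {z : F} (_hz : z ≠ 0)
    (hv : ∀ a b d, t * v a b d * t⁻¹ = v (T.nm z * a) (z * (T.sg z)⁻¹ * b) ((T.nm z)⁻¹ * d)) :
    cj t (UX V Q Q') = UX V Q Q' ∧ cj t (cj m₀ (UX V Q Q')) = cj m₀ (UX V Q Q') := by
  have h1 : t ∈ normalizer (R : Set G) := mem_NR_of I fun a => ⟨_, by rw [hv, mul_zero, mul_zero]⟩
  refine ⟨UX_of_NR I D Ex ht h1, ?_⟩
  have h2 : m₀⁻¹ * t * m₀ ∈ normalizer (R : Set G) := mem_NR_of I fun a => ⟨(T.nm z)⁻¹ * a, by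
    calc m₀⁻¹ * t * m₀ * v a 0 0 * (m₀⁻¹ * t * m₀)⁻¹
        = m₀⁻¹ * (t * (m₀ * v a 0 0 * m₀⁻¹) * t⁻¹) * m₀ := by group
      _ = v ((T.nm z)⁻¹ * a) 0 0 := by rw [M.act, hv, M.inv_act I]; simp⟩
  have h3 := UX_of_NR I D Ex (mul_mem (mul_mem (inv_mem M.mem) ht) M.mem) h2
  have e : t * m₀ = m₀ * (m₀⁻¹ * t * m₀) := by group
  rw [← cj_mul, e, cj_mul, h3]

include I D Ex M in
/-- **`X` is a rank one group.** -/
theorem absX : PanOf.Abs (Q ⊔ Q') (UX V Q Q') (OX V Q Q') m₀ where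
  UL := UX_le_X I
  QU := OX_le_UX I
  LQ := X_OX I D Ex
  two := UX_two I Ex
  nL := M.mem
  trans x hx := by
    rcases pos I D Ex M hx with h | ⟨y, hy, x', hx', hR, rfl⟩
    · exact Or.inl (UX_of_NR I D Ex hx h)
    · right
      exact ⟨y, mem_sup_left hy, by rw [cj_mul, UX_of_NR I D Ex hx' hR]⟩
  ne := m₀_ne I D Ex M
  swap := by
    rw [← cj_mul]
    exact UX_of_NR I D Ex (mul_mem M.mem M.mem) (CV_NR I (M.sq I))
  inter u hu h := by
    have h1 : cj (m₀⁻¹ * u * m₀) (UX V Q Q') = UX V Q Q' := by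
      rw [cj_mul, cj_mul, h, cj_inv_cj]
    have h2 := NR_of_UX I (X_NV I (mul_mem (mul_mem (inv_mem M.mem) (UX_le_X I hu)) M.mem)) h1
    obtain ⟨y, hy, b, hb, rfl⟩ := (mem_UX I).1 hu
    have h3 := (mem_normalizer_iff.1 h2 _).1 (I.sp.a_mem 1)
    obtain ⟨a, e⟩ := I.mem_R.1 h3
    have hbV : b * v 0 0 1 * b⁻¹ = v 0 0 1 := by
      rw [← mem_centralizer_iff.1 (mem_inf.1 hb).2 _ (I.v_mem 0 0 1)]; group
    have e2 : m₀⁻¹ * (y * b) * m₀ * v 1 0 0 * (m₀⁻¹ * (y * b) * m₀)⁻¹ =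
        m₀⁻¹ * (y * (b * (m₀ * v 1 0 0 * m₀⁻¹) * b⁻¹) * y⁻¹) * m₀ := by group
    rw [e2, M.act, map_zero, hbV, I.act y hy, M.inv_act I] at e
    have h4 := (I.v_eq e).2.1
    rw [zero_add, map_one, mul_one] at h4
    have h5 : p y = 0 := by
      have := congrArg T.sg h4
      rwa [T.sg_sg, map_zero] at this
    exact mul_mem (mem_sup_left (mem_inf.2 ⟨hy, (I.p_eq_zero hy).1 h5⟩)) (mem_sup_right hb)
  fix u hu h := by
    obtain ⟨y, hy, b, hb, rfl⟩ := (mem_UX I).1 hu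
    -- a torus element with `z² ≠ 1`
    obtain ⟨z, hz0, hz1⟩ := T.exists_z I.h2
    have hz2 : z ≠ 1 := by rintro rfl; simp at hz1
    obtain ⟨t, ht, hv, hp, -, hn⟩ := D.tor z hz0
    obtain ⟨h1, h2⟩ := tor_UX I D Ex M ht hz0 hv
    have h3 := h t ht h1 h2
    obtain ⟨hyQ, hpy⟩ := hp y hy
    -- in `C(V)`
    have htV := X_NV I ht
    have h4 : t * (y * b) * t⁻¹ * (y * b)⁻¹ ∈ centralizer (V : Set G) := OX_le_CV I h3
    have hb1 : t * b * t⁻¹ ∈ centralizer (V : Set G) := cen_conj I htV (mem_inf.1 hb).2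
    have hb2 := (mem_inf.1 hb).2
    have h5 : (t * y * t⁻¹) * y⁻¹ ∈ centralizer (V : Set G) := by
      have e : (t * y * t⁻¹) * y⁻¹ = (t * (y * b) * t⁻¹ * (y * b)⁻¹) *
          (y * (b * (t * b * t⁻¹)⁻¹) * y⁻¹) := by group
      rw [e]
      exact mul_mem h4 (cen_conj I (I.Q_NV hy) (mul_mem hb2 (inv_mem hb1)))
    have h6 := (I.p_eq_zero (mul_mem hyQ (inv_mem hy))).2 h5
    rw [I.p_add _ hyQ _ (inv_mem hy), I.p_inv hy, hpy] at h6
    have h7 : (z + 1) ^ 2 * p y = 0 := by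
      have : (z + 1) ^ 2 * p y = (z ^ 2 * p y + p y) + (z * p y + z * p y) := by ring
      rw [this, h6, T.add_self (h2 := I.h2), add_zero]
    have h8 : p y = 0 := by
      rcases mul_eq_zero.1 h7 with h9 | h9
      · exfalso
        apply hz2
        have h10 := pow_eq_zero_iff (two_ne_zero) |>.1 h9
        calc z = z + (1 + 1) := by rw [T.add_self (h2 := I.h2), add_zero]
          _ = (z + 1) + 1 := by ring
          _ = 1 := by rw [h10, zero_add]
      · exact h9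
    exact mul_mem (mem_sup_left (mem_inf.2 ⟨hy, (I.p_eq_zero hy).1 h8⟩)) (mem_sup_right hb)

include O I D Ex in
/-- `2`-elements of `N_X(R)` lie in `UX` -/
theorem two_NR {x : G} (hx : x ∈ Q ⊔ Q') (hR : x ∈ normalizer (R : Set G)) {j : ℕ}
    (h2 : x ^ 2 ^ j = 1) : x ∈ UX V Q Q' := by
  obtain ⟨A, hA, hA1, -⟩ := exists_mat I D Ex hx
  -- `A 1 0 = 0`
  have hγ : A 1 0 = 0 := by
    obtain ⟨a', b', d', e1, e2⟩ := hA1 1 0 0
    have h3 := (mem_normalizer_iff.1 hR _).1 (I.sp.a_mem 1)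
    obtain ⟨a, e⟩ := I.mem_R.1 h3
    have e' : v a' b' d' = v a 0 0 := by rw [← e1, e]
    obtain ⟨-, -, rfl⟩ := I.v_eq e'
    unfold mu st at e2
    have e5 := congrFun (congrFun e2 1) 1
    simp [Matrix.mul_apply, Fin.sum_univ_two] at e5
    exact e5
  -- the powers
  have hpow : ∀ i : ℕ, VAct T v (x ^ i) (A ^ i) ∧ (A ^ i) 1 0 = 0 ∧ (A ^ i) 0 0 = (A 0 0) ^ i := by
    intro i
    induction i with
    | zero => exact ⟨by rw [pow_zero, pow_zero]; exact VAct.one, by simp, by simp⟩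
    | succ i ih =>
      obtain ⟨h1, h3, h4⟩ := ih
      refine ⟨by rw [pow_succ, pow_succ]; exact h1.mul hA1, ?_, ?_⟩
      · rw [pow_succ, Matrix.mul_apply, Fin.sum_univ_two, h3, hγ, zero_mul, mul_zero, add_zero]
      · rw [pow_succ, Matrix.mul_apply, Fin.sum_univ_two, h4, hγ, mul_zero, add_zero, pow_succ]
  obtain ⟨h3, -, h4⟩ := hpow (2 ^ j)
  rw [h2] at h3
  have h5 := VAct.eq_one I h3 (by rw [Matrix.det_pow, hA, one_pow]) (one_mem _)
  rw [h5, Matrix.one_apply_eq] at h4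
  have hc : CharP F 2 := CharTwo.of_one_ne_zero_of_two_eq_zero one_ne_zero (T.twoF I.h2)
  have h6 : A 0 0 = 1 := by
    have h7 : (A 0 0 - 1) ^ 2 ^ j = 0 := by
      have := sub_pow_char_pow (R := F) (p := 2) (x := A 0 0) (y := 1) (n := j)
      rw [this, ← h4, one_pow, sub_self]
    exact sub_eq_zero.1 (pow_eq_zero_iff (by positivity) |>.1 h7)
  have h7 : A 1 1 = 1 := by
    rw [Matrix.det_fin_two, h6, hγ, mul_zero, sub_zero, one_mul] at hA
    exact hA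
  obtain ⟨y, hy, hpy⟩ := I.p_surj (A 0 1)
  -- `y x` is trivial on `V`
  have h8 : y * x ∈ centralizer (V : Set G) := by
    have h9 := (VAct_Q I hy).mul hA1
    have h10 : !![1, p y; 0, 1] * A = 1 := by
      ext i' j'
      fin_cases i' <;> fin_cases j'
      · simp [Matrix.mul_apply, Fin.sum_univ_two, h6, hγ]
      · simp [Matrix.mul_apply, Fin.sum_univ_two, h7, hpy]
        exact T.add_self (h2 := I.h2) _
      · simp [Matrix.mul_apply, Fin.sum_univ_two, hγ]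
      · simp [Matrix.mul_apply, Fin.sum_univ_two, h7]
    rw [h10] at h9
    rw [mem_centralizer_iff]
    intro z hz
    obtain ⟨a, b, d, rfl⟩ := I.v_surj z hz
    obtain ⟨a', b', d', e1, e2⟩ := h9 a b d
    have h11 : st T (1 : Matrix (Fin 2) (Fin 2) F) = 1 := by
      unfold st
      rw [Matrix.map_one _ (map_zero _) (map_one _), Matrix.transpose_one]
    rw [h11, Matrix.one_mul, Matrix.mul_one] at e2
    unfold mu at e2
    have e3 := congrFun (congrFun e2 0) 0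
    have e4 := congrFun (congrFun e2 0) 1
    have e5 := congrFun (congrFun e2 1) 1
    simp at e3 e4 e5
    rw [e3, e4, e5] at e1
    calc v a b d * (y * x) = (y * x * v a b d * (y * x)⁻¹) * (y * x) := by rw [e1]
      _ = _ := by group
  have h9 := CX_le O I D Ex (mul_mem (mem_sup_left hy) hx) h8
  have e : x = y⁻¹ * (y * x) := by group
  rw [e]
  exact mul_mem (mem_sup_left (inv_mem hy)) (OX_le_UX I h9)

include O I D Ex in
/-- **`UX` is a Sylow `2`-subgroup of `X`.** -/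
theorem sylX (P : Subgroup G) (hP : P ≤ Q ⊔ Q') (h2 : IsPGroup 2 P) (hU : UX V Q Q' ≤ P) :
    P ≤ UX V Q Q' := by
  by_contra hcon
  have : Fact (Nat.Prime 2) := ⟨Nat.prime_two⟩
  have hnil := h2.isNilpotent
  have hlt : (UX V Q Q').subgroupOf P < ⊤ := by
    rw [lt_top_iff_ne_top]
    intro h
    rw [subgroupOf_eq_top] at h
    exact hcon h
  have h3 := Group.normalizerCondition_of_isNilpotent (G := P) _ hlt
  obtain ⟨⟨x, hxP⟩, hx1, hx2⟩ := SetLike.exists_of_lt h3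
  apply hx2
  rw [mem_subgroupOf]
  show x ∈ UX V Q Q'
  have hxN : cj x (UX V Q Q') = UX V Q Q' := by
    rw [← mem_norm_iff]
    refine Central.mem_norm_of fun u hu => ?_
    have := (mem_normalizer_iff.1 hx1 ⟨u, hU hu⟩).1 (mem_subgroupOf.2 hu)
    exact mem_subgroupOf.1 this
  obtain ⟨j, hj⟩ := h2 ⟨x, hxP⟩
  exact two_NR O I D Ex (hP hxP) (NR_of_UX I (X_NV I (hP hxP)) hxN) (congrArg Subtype.val hj)

end fld

end Cfsg.Agent.RankTwoClose.XSide
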