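import Cfsg.Agent.RankTwoClose.XSide.OAct
import Cfsg.Agent.RankTwoClose.QIn

/-!
# The group `X = ⟨Q, Q'⟩` (type beta): `X` as a rank one group

`CQ = C_Q(V)`, `CQ' = C_{Q'}(V)`, `OX = CQ CQ'`, `UX = Q CQ'`.  `C_X(V) = OX`; `X` is a rank one group
(`PanOf.Abs`) with `O₂(X) = OX` and Sylow `2`-subgroup `UX`.
-/

set_option autoImplicit false
set_option linter.unusedSectionVars false

open Subgroup

namespace Cfsg.Agent.RankTwoClose.XSide

open Cfsg.Agent.Omega.NOne.SU Cfsg.Agent.RankTwoClose.UFour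

variable {G : Type*} [Group G] {k F : Type*} [Field k] [Field F] [Algebra k F]

/-- `O₂(X)` -/
abbrev OX (V Q Q' : Subgroup G) : Subgroup G :=
  (Q ⊓ centralizer (V : Set G)) ⊔ (Q' ⊓ centralizer (V : Set G))

/-- the Sylow `2`-subgroup of `X` -/
abbrev UX (V Q Q' : Subgroup G) : Subgroup G := Q ⊔ (Q' ⊓ centralizer (V : Set G))

section basic

variable {T : Quad k F} {S : Sylow 2 G} {V R Q Q' : Subgroup G} {v : k → F → k → G} {p p' : G → F}
  (I : GIn T S V R Q Q' v p p')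
include I

theorem CV_norm_Q : centralizer (V : Set G) ≤ normalizer (Q : Set G) := by
  intro c hc
  rw [mem_normalizer_iff]
  intro y
  refine ⟨CV_Q I hc, fun h => ?_⟩
  have := CV_Q I (inv_mem hc) h
  rwa [show c⁻¹ * (c * y * c⁻¹) * c⁻¹⁻¹ = y by group] at this

theorem mem_UX {u : G} : u ∈ UX V Q Q' ↔ ∃ y ∈ Q, ∃ b ∈ Q' ⊓ centralizer (V : Set G), u = y * b := by
  constructor
  · intro hu
    have hu' : u ∈ (Q' ⊓ centralizer (V : Set G)) ⊔ Q := by rw [sup_comm]; exact hu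
    obtain ⟨b, hb, y, hy, rfl⟩ := mem_sup_norm (inf_le_right.trans (CV_norm_Q I)) hu'
    exact ⟨b * y * b⁻¹, CV_Q I (mem_inf.1 hb).2 hy, b, hb, by group⟩
  · rintro ⟨y, hy, b, hb, rfl⟩
    exact mul_mem (mem_sup_left hy) (mem_sup_right hb)

theorem CQ'_norm : Q' ⊓ centralizer (V : Set G) ≤
    normalizer ((Q ⊓ centralizer (V : Set G) : Subgroup G) : Set G) := fun b hb =>
  norm_inf (CV_norm_Q I (mem_inf.1 hb).2) (le_normalizer (mem_inf.1 hb).2)

theorem mem_OX {u : G} : u ∈ OX V Q Q' ↔ ∃ a ∈ Q ⊓ centralizer (V : Set G),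
    ∃ b ∈ Q' ⊓ centralizer (V : Set G), u = a * b := by
  constructor
  · intro hu
    have hu' : u ∈ (Q' ⊓ centralizer (V : Set G)) ⊔ (Q ⊓ centralizer (V : Set G)) := by
      rw [sup_comm]; exact hu
    obtain ⟨b, hb, y, hy, rfl⟩ := mem_sup_norm (CQ'_norm I) hu'
    exact ⟨b * y * b⁻¹, conj_mem (CQ'_norm I hb) hy, b, hb, by group⟩
  · rintro ⟨y, hy, b, hb, rfl⟩
    exact mul_mem (mem_sup_left hy) (mem_sup_right hb)

theorem OX_le_UX : OX V Q Q' ≤ UX V Q Q' := sup_le_sup_right inf_le_left _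

theorem OX_le_CV : OX V Q Q' ≤ centralizer (V : Set G) := sup_le inf_le_right inf_le_right

theorem V_le_OX : V ≤ OX V Q Q' := by
  intro z hz
  obtain ⟨e, he, e', he', h1, h2, rfl⟩ := split_V I hz
  exact mul_mem (mem_sup_left (mem_inf.2 ⟨he, I.V_CV h1⟩)) (mem_sup_right (mem_inf.2 ⟨he', I.V_CV h2⟩))

theorem UX_le_X : UX V Q Q' ≤ Q ⊔ Q' := sup_le_sup_left inf_le_left _

theorem UX_le_NR : UX V Q Q' ≤ normalizer (R : Set G) :=
  sup_le I.Q_NR (inf_le_right.trans (CV_NR I))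

/-- `C_U(V) = OX` -/
theorem mem_OX_of {u : G} (hu : u ∈ UX V Q Q') (hV : u ∈ centralizer (V : Set G)) : u ∈ OX V Q Q' := by
  obtain ⟨y, hy, b, hb, rfl⟩ := (mem_UX I).1 hu
  have h1 : y ∈ centralizer (V : Set G) := by
    have := mul_mem hV (inv_mem (mem_inf.1 hb).2)
    rwa [mul_inv_cancel_right] at this
  exact mul_mem (mem_sup_left (mem_inf.2 ⟨hy, h1⟩)) (mem_sup_right hb)

end basic

section out

variable {T : Quad k F} {S : Sylow 2 G} {V R Q Q' : Subgroup G} {v : k → F → k → G} {p p' : G → F}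
  {Φ : Type*} [AddCommGroup Φ] [Module F Φ] {φ χ : G → Φ}
  (I : GIn T S V R Q Q' v p p') (D : Fld T V R Q Q' v p φ χ) (Ex : Ext V R Q Q' p')

theorem X_OX [Finite G] (I : GIn T S V R Q Q' v p p') (D : Fld T V R Q Q' v p φ χ)
    (Ex : Ext V R Q Q' p') : Q ⊔ Q' ≤ normalizer ((OX V Q Q' : Subgroup G) : Set G) := by
  intro x hx
  refine Central.mem_norm_of fun u hu => ?_
  obtain ⟨a, ha, b, hb, rfl⟩ := (mem_OX I).1 hu
  obtain ⟨A, -, -, hA⟩ := exists_mat I D Ex hx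
  obtain ⟨a', ha', haV', b', hb', hbV', z, hz, e, -, -⟩ :=
    hA a (mem_inf.1 ha).1 (mem_inf.1 ha).2 b (mem_inf.1 hb).1 (mem_inf.1 hb).2
  rw [e]
  exact mul_mem (V_le_OX I hz) (mul_mem (mem_sup_left (mem_inf.2 ⟨ha', haV'⟩))
    (mem_sup_right (mem_inf.2 ⟨hb', hbV'⟩)))

/-- **`C_X(V) ≤ O₂(X)`** -/
theorem CX_le [Finite G] {hm : Φ → Φ → F} {W : Type*} [AddCommGroup W] [Module F W] {w : G → W}
    {g : W → W → F} {f₀ : W} {ι : Φ →ₗ[F] W} (O : Out T V R Q Q' v p φ χ hm w g f₀ ι)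
    (I : GIn T S V R Q Q' v p p') (D : Fld T V R Q Q' v p φ χ) (Ex : Ext V R Q Q' p') {x : G}
    (hx : x ∈ Q ⊔ Q') (hxV : x ∈ centralizer (V : Set G)) : x ∈ OX V Q Q' := by
  obtain ⟨A, hd, hA1, hA2⟩ := exists_mat I D Ex hx
  obtain rfl := VAct.eq_one I hA1 hd hxV
  have hxR : x ∈ centralizer (R : Set G) := I.CV_le_CR hxV
  have hxN := I.CR_NR hxR
  have hfix : ∀ z ∈ V, x * z * x⁻¹ = z := fun z hz => by
    rw [← mem_centralizer_iff.1 hxV z hz]; group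
  obtain ⟨n, hn, hnV, d, y, hy, e⟩ := O.rad x hxR (fun b => by rw [hfix _ (I.v_mem _ _ _)])
    (fun a ha h0 => by
      rw [← O.p_eq a ha] at h0
      have haV := (I.p_eq_zero ha).1 h0
      obtain ⟨a', ha', haV', b', hb', hbV', z, hz, e, e1, e2⟩ := hA2 a ha haV 1 (one_mem _) (one_mem _)
      have hc : x * a * x⁻¹ ∈ Q := I.nor x hxN a ha
      have hcV : x * a * x⁻¹ ∈ centralizer (V : Set G) := mul_mem (mul_mem hxV haV) (inv_mem hxV)
      obtain ⟨h1, -⟩ := φχ_congr I D hc hcV ha' haV' (one_mem _) (one_mem _) hb' hbV' hz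
        (by rw [mul_one, ← e, mul_one])
      rw [e1] at h1
      simp only [Matrix.one_apply_eq, one_smul, χ_one I D, smul_zero, add_zero] at h1
      have h2 : x * a * x⁻¹ * a⁻¹ ∈ Q := mul_mem hc (inv_mem ha)
      have h3 : x * a * x⁻¹ * a⁻¹ ∈ centralizer (V : Set G) := mul_mem hcV (inv_mem haV)
      have h4 : φ (x * a * x⁻¹ * a⁻¹) = 0 := by
        rw [D.φ_add _ hc hcV _ (inv_mem ha) (inv_mem haV), φ_inv I D ha haV, h1]
        nth_rewrite 1 [← neg_Φ I D (φ a)]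
        exact neg_add_cancel _
      obtain ⟨a'', b'', e3⟩ := (D.φ_ker _ h2 h3).1 h4
      refine ⟨b'', ?_⟩
      have e4 : x * a * x⁻¹ = v a'' b'' 0 * a := by rw [← e3]; group
      rw [e4, O.w_mul _ (I.E_le _ _) _ ha, O.w_v I, O.w_e b'', add_comm])
    (fun a ha => by
      have hc : x * a * x⁻¹ ∈ Q := I.nor x hxN a ha
      rw [← O.p_eq a ha, ← O.p_eq _ hc]
      have h1 : x * a * x⁻¹ * a⁻¹ ∈ centralizer (V : Set G) := by
        have e5 : x * a * x⁻¹ * a⁻¹ = x * (a * x⁻¹ * a⁻¹) := by group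
        rw [e5]
        exact mul_mem hxV (cen_conj I (I.Q_NV ha) (inv_mem hxV))
      have h2 := (I.p_eq_zero (mul_mem hc (inv_mem ha))).2 h1
      rw [I.p_add _ hc _ (inv_mem ha), I.p_inv ha] at h2
      calc p (x * a * x⁻¹) = p (x * a * x⁻¹) + (p a + p a) := by
            rw [T.add_self (h2 := I.h2), add_zero]
        _ = (p (x * a * x⁻¹) + p a) + p a := by ring
        _ = p a := by rw [h2, zero_add])
  have hyV : y ∈ centralizer (V : Set G) := by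
    have : y = (n * v 0 0 d)⁻¹ * x := by rw [e]; group
    rw [this]
    exact mul_mem (inv_mem (mul_mem hnV (I.V_CV (I.v_mem _ _ _)))) hxV
  rw [e]
  exact mul_mem (mul_mem (mem_sup_right (mem_inf.2 ⟨hn, hnV⟩)) (V_le_OX I (I.v_mem _ _ _)))
    (mem_sup_left (mem_inf.2 ⟨hy, hyV⟩))

end out

end Cfsg.Agent.RankTwoClose.XSide
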