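import Cfsg.Agent.Omega.NOne.SU.OutBasic

/-!
# The group `X = ⟨Q, Q'⟩` (type beta): the action on `V` and on `O/V`

`VAct x A` : `x ∈ X` acts on `V` (hermitian matrices) as `H ↦ A H A^*`; `OAct x A` : it acts on
`O/V = C_Q(V)V/V × C_{Q'}(V)V/V = Φ × Φ` as the matrix `A`.  Every `x ∈ X` has a matrix `A` of determinant
one with both properties; so `C_X(V) = C_X(O/V) ∩ ...` acts trivially on `O/V`.
-/

set_option autoImplicit false
set_option linter.unusedSectionVars false

open Subgroup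

namespace Cfsg.Agent.RankTwoClose.XSide

open Cfsg.Agent.Omega.NOne.SU

variable {G : Type*} [Group G] {k F : Type*} [Field k] [Field F] [Algebra k F]

/-- the hermitian matrix of `v a b d` -/
def mu (T : Quad k F) (a : k) (b : F) (d : k) : Matrix (Fin 2) (Fin 2) F :=
  !![algebraMap k F a, b; T.sg b, algebraMap k F d]

/-- the adjoint -/
def st (T : Quad k F) (A : Matrix (Fin 2) (Fin 2) F) : Matrix (Fin 2) (Fin 2) F :=
  (A.map T.sg).transpose

theorem st_mul (T : Quad k F) (A B : Matrix (Fin 2) (Fin 2) F) : st T (A * B) = st T B * st T A := by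
  unfold st
  rw [← Matrix.transpose_mul]
  congr 1
  exact Matrix.map_mul (f := (T.sg : F →+* F))

/-- `x` acts on `V` as `H ↦ A H A^*` -/
def VAct (T : Quad k F) (v : k → F → k → G) (x : G) (A : Matrix (Fin 2) (Fin 2) F) : Prop :=
  ∀ a b d, ∃ a' b' d', x * v a b d * x⁻¹ = v a' b' d' ∧ mu T a' b' d' = A * mu T a b d * st T A

theorem VAct.mul {T : Quad k F} {v : k → F → k → G} {x y : G} {A B : Matrix (Fin 2) (Fin 2) F}
    (hx : VAct T v x A) (hy : VAct T v y B) : VAct T v (x * y) (A * B) := by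
  intro a b d
  obtain ⟨a', b', d', e1, e2⟩ := hy a b d
  obtain ⟨a'', b'', d'', e3, e4⟩ := hx a' b' d'
  refine ⟨a'', b'', d'', ?_, ?_⟩
  · rw [← e3, ← e1]; group
  · rw [e4, e2, st_mul]
    simp only [Matrix.mul_assoc]

theorem VAct.one {T : Quad k F} {v : k → F → k → G} : VAct T v 1 1 := by
  intro a b d
  refine ⟨a, b, d, by group, ?_⟩
  have : st T (1 : Matrix (Fin 2) (Fin 2) F) = 1 := by
    unfold st
    rw [Matrix.map_one _ (map_zero _) (map_one _), Matrix.transpose_one]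
  rw [this, Matrix.one_mul, Matrix.mul_one]

section gin

variable {T : Quad k F} {S : Sylow 2 G} {V R Q Q' : Subgroup G} {v : k → F → k → G} {p p' : G → F}
  (I : GIn T S V R Q Q' v p p')
include I

theorem VAct_Q {y : G} (hy : y ∈ Q) : VAct T v y !![1, p y; 0, 1] := by
  intro a b d
  refine ⟨_, _, _, I.act y hy a b d, ?_⟩
  unfold mu st
  ext i j
  fin_cases i <;> fin_cases j
  · simp [Matrix.mul_apply, Fin.sum_univ_two, T.tr_eq, T.nm_eq, T.sg_sg]
    ring
  · simp [Matrix.mul_apply, Fin.sum_univ_two]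
  · simp [Matrix.mul_apply, Fin.sum_univ_two]
    ring
  · simp [Matrix.mul_apply, Fin.sum_univ_two]

theorem VAct_Q' {y : G} (hy : y ∈ Q') : VAct T v y !![1, 0; p' y, 1] := by
  intro a b d
  refine ⟨_, _, _, I.act' y hy a b d, ?_⟩
  unfold mu st
  ext i j
  fin_cases i <;> fin_cases j
  · simp [Matrix.mul_apply, Fin.sum_univ_two]
  · simp [Matrix.mul_apply, Fin.sum_univ_two]
    ring
  · simp [Matrix.mul_apply, Fin.sum_univ_two, T.sg_sg]
    ring
  · simp [Matrix.mul_apply, Fin.sum_univ_two, T.tr_eq, T.nm_eq]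
    ring

theorem norm_V_of_VAct {x : G} {A : Matrix (Fin 2) (Fin 2) F} (h : VAct T v x A) {z : G} (hz : z ∈ V) :
    x * z * x⁻¹ ∈ V := by
  obtain ⟨a, b, d, rfl⟩ := I.v_surj z hz
  obtain ⟨a', b', d', e, -⟩ := h a b d
  rw [e]
  exact I.v_mem _ _ _

/-- an element of determinant one which is trivial on `V` has the matrix `1` -/
theorem VAct.eq_one {x : G} {A : Matrix (Fin 2) (Fin 2) F} (h : VAct T v x A) (hd : A.det = 1)
    (hx : x ∈ centralizer (V : Set G)) : A = 1 := by
  have hc : ∀ a b d, mu T a b d = A * mu T a b d * st T A := by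
    intro a b d
    obtain ⟨a', b', d', e1, e2⟩ := h a b d
    have h1 : x * v a b d * x⁻¹ = v a b d := by
      rw [← mem_centralizer_iff.1 hx _ (I.v_mem a b d)]; group
    rw [h1] at e1
    obtain ⟨rfl, rfl, rfl⟩ := I.v_eq e1
    exact e2
  rw [Matrix.det_fin_two] at hd
  have h1 := hc 1 0 0
  have h2 := hc 0 0 1
  have h3 := hc 0 1 0
  unfold mu st at h1 h2 h3
  have e1 := congrFun (congrFun h1 1) 1
  have e2 := congrFun (congrFun h2 0) 0
  have e3 := congrFun (congrFun h1 0) 0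
  have e4 := congrFun (congrFun h3 0) 1
  simp [Matrix.mul_apply, Fin.sum_univ_two] at e1 e2 e3 e4
  -- `A 1 0 = 0`, `A 0 1 = 0`
  rw [e1, e2] at hd
  rw [e2, zero_mul, zero_add] at e4
  simp only [mul_zero, sub_zero] at hd
  -- `A 0 0 = A 1 1`
  have hA0 : A 0 0 ≠ 0 := by
    intro h0
    rw [h0, zero_mul] at hd
    exact zero_ne_one hd
  have h4 : T.sg (A 1 1) = A 1 1 := by
    apply mul_left_cancel₀ hA0
    rw [hd, ← e4]
  have h5 : T.sg (A 0 0) = A 1 1 := by
    apply mul_left_cancel₀ hA0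
    rw [hd, ← e3]
  have h6 : A 0 0 = A 1 1 := by
    have := congrArg T.sg h5
    rw [T.sg_sg, h4] at this
    exact this
  have h7 : A 0 0 = 1 := by
    have h8 : (A 0 0 + 1) * (A 0 0 + 1) = 0 := by
      have h9 : A 0 0 * A 0 0 = 1 := by
        conv_lhs => rw [h6]
        rw [← hd, ← h6]
      calc (A 0 0 + 1) * (A 0 0 + 1) = (A 0 0 * A 0 0 + 1) + (A 0 0 + A 0 0) := by ring
        _ = 0 := by rw [h9, T.add_self (h2 := I.h2), T.add_self (h2 := I.h2), add_zero]
    have h9 : A 0 0 + 1 = 0 := mul_self_eq_zero.mp h8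
    calc A 0 0 = A 0 0 + (1 + 1) := by rw [T.add_self (h2 := I.h2), add_zero]
      _ = (A 0 0 + 1) + 1 := by ring
      _ = 1 := by rw [h9, zero_add]
  ext i j
  fin_cases i <;> fin_cases j
  · simpa using h7
  · simpa using e2
  · simpa using e1
  · simp only [Fin.mk_one, Fin.isValue, Matrix.one_apply_eq]
    rw [← h6]; exact h7

end gin

end Cfsg.Agent.RankTwoClose.XSide
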