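import Cfsg.Agent.RankTwoClose.XSide.Mat

/-!
# The group `X = ⟨Q, Q'⟩` (type beta): the action on `O/V`, and `C_X(V) = O`
-/

set_option autoImplicit false
set_option linter.unusedSectionVars false

open Subgroup

namespace Cfsg.Agent.RankTwoClose.XSide

open Cfsg.Agent.Omega.NOne.SU

variable {G : Type*} [Group G] {k F : Type*} [Field k] [Field F] [Algebra k F]

section basic

variable {T : Quad k F} {S : Sylow 2 G} {V R Q Q' : Subgroup G} {v : k → F → k → G} {p p' : G → F}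
  (I : GIn T S V R Q Q' v p p')
include I

theorem Q'_NV : Q' ≤ normalizer (V : Set G) := by
  have key : ∀ y ∈ Q', ∀ x ∈ V, y * x * y⁻¹ ∈ V := by
    intro y hy x hx
    obtain ⟨a, b, d, rfl⟩ := I.v_surj x hx
    rw [I.act' y hy]
    exact I.v_mem _ _ _
  intro y hy
  rw [mem_normalizer_iff]
  intro x
  refine ⟨key y hy x, fun h => ?_⟩
  have := key y⁻¹ (inv_mem hy) _ h
  simpa [mul_assoc] using this

theorem X_NV : Q ⊔ Q' ≤ normalizer (V : Set G) := sup_le I.Q_NV (Q'_NV I)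

/-- conjugates of elements of `C(V)` by elements of `N(V)` -/
theorem cen_conj {x c : G} (hx : x ∈ normalizer (V : Set G)) (hc : c ∈ centralizer (V : Set G)) :
    x * c * x⁻¹ ∈ centralizer (V : Set G) := by
  have _ := I.h2
  rw [mem_centralizer_iff] at hc ⊢
  intro z hz
  have h1 : x⁻¹ * z * x ∈ V := by
    have := (mem_normalizer_iff.1 (inv_mem hx) z).1 hz
    rwa [inv_inv] at this
  have h2 := hc _ h1
  calc z * (x * c * x⁻¹) = x * ((x⁻¹ * z * x) * c) * x⁻¹ := by group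
    _ = x * (c * (x⁻¹ * z * x)) * x⁻¹ := by rw [h2]
    _ = x * c * x⁻¹ * z := by group

theorem CV_NR : centralizer (V : Set G) ≤ normalizer (R : Set G) := I.CV_le_CR.trans I.CR_le_NR

/-- `C(V)` normalises `Q` -/
theorem CV_Q {c y : G} (hc : c ∈ centralizer (V : Set G)) (hy : y ∈ Q) : c * y * c⁻¹ ∈ Q :=
  I.nor c (CV_NR I hc) y hy

theorem CV_Q' {c y : G} (hc : c ∈ centralizer (V : Set G)) (hy : y ∈ Q') : c * y * c⁻¹ ∈ Q' :=
  I.nor' c hc y hy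

theorem meet_V : Q ⊓ Q' ≤ V := by
  rintro x ⟨h1, h2⟩
  obtain ⟨b, rfl⟩ := I.meet x h1 h2
  exact I.v_mem _ _ _

theorem p'_one : p' 1 = 0 := by
  have := I.p'_add 1 (one_mem _) 1 (one_mem _)
  rw [mul_one] at this
  exact left_eq_add.1 this

/-- `[C_{Q'}(V), Q] ≤ C_Q(V)` -/
theorem comm_CQ {b y : G} (hb : b ∈ Q') (hbV : b ∈ centralizer (V : Set G)) (hy : y ∈ Q) :
    b * y * b⁻¹ * y⁻¹ ∈ Q ∧ b * y * b⁻¹ * y⁻¹ ∈ centralizer (V : Set G) := by
  have _ := hb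
  refine ⟨mul_mem (CV_Q I hbV hy) (inv_mem hy), ?_⟩
  have e : b * y * b⁻¹ * y⁻¹ = b * (y * b⁻¹ * y⁻¹) := by group
  rw [e]
  exact mul_mem hbV (cen_conj I (I.Q_NV hy) (inv_mem hbV))

/-- `[Q', C_Q(V)] ≤ C_{Q'}(V)` -/
theorem comm_CQ' {z a : G} (hz : z ∈ Q') (haV : a ∈ centralizer (V : Set G)) :
    z * a * z⁻¹ * a⁻¹ ∈ Q' ∧ z * a * z⁻¹ * a⁻¹ ∈ centralizer (V : Set G) := by
  constructor
  · have e : z * a * z⁻¹ * a⁻¹ = z * (a * z⁻¹ * a⁻¹) := by group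
    rw [e]
    exact mul_mem hz (CV_Q' I haV (inv_mem hz))
  · exact mul_mem (cen_conj I (Q'_NV I hz) haV) (inv_mem haV)

/-- `V ∩ Q` -/
theorem mem_E {z : G} (hz : z ∈ V) (hQ : z ∈ Q) : ∃ a b, z = v a b 0 := by
  obtain ⟨a, b, d, rfl⟩ := I.v_surj z hz
  have := I.V_Q a b d hQ
  exact ⟨a, b, by rw [this]⟩

/-- `V ∩ Q' ⊇ v 0 b d` -/
theorem split_V {z : G} (hz : z ∈ V) : ∃ e ∈ Q, ∃ e' ∈ Q', e ∈ V ∧ e' ∈ V ∧ z = e * e' := by
  obtain ⟨a, b, d, rfl⟩ := I.v_surj z hz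
  refine ⟨v a b 0, I.E_le a b, v 0 0 d, I.E'_le 0 d, I.v_mem _ _ _, I.v_mem _ _ _, ?_⟩
  rw [← I.v_add, add_zero, add_zero, zero_add]

end basic

section fld

variable {T : Quad k F} {S : Sylow 2 G} {V R Q Q' : Subgroup G} {v : k → F → k → G} {p p' : G → F}
  {Φ : Type*} [AddCommGroup Φ] [Module F Φ] {φ χ : G → Φ}
  (I : GIn T S V R Q Q' v p p') (D : Fld T V R Q Q' v p φ χ)
include I D

theorem neg_Φ (u : Φ) : -u = u := by
  have _ := D
  have h1 : (2 : F) • u = 0 := by rw [T.twoF I.h2, zero_smul]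
  rw [two_smul] at h1
  exact neg_eq_of_add_eq_zero_left h1

theorem φ_one : φ 1 = 0 := by
  have _ := I
  have := D.φ_add 1 (one_mem _) (one_mem _) 1 (one_mem _) (one_mem _)
  rw [mul_one] at this
  exact left_eq_add.1 this

theorem χ_one : χ 1 = 0 := by
  have _ := I
  have := D.χ_add 1 (one_mem _) (one_mem _) 1 (one_mem _) (one_mem _)
  rw [mul_one] at this
  exact left_eq_add.1 this

theorem φ_inv {a : G} (ha : a ∈ Q) (haV : a ∈ centralizer (V : Set G)) : φ a⁻¹ = φ a := by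
  have := D.φ_add a⁻¹ (inv_mem ha) (inv_mem haV) a ha haV
  rw [inv_mul_cancel, φ_one I D] at this
  rw [← neg_Φ I D (φ a)]
  exact eq_neg_of_add_eq_zero_left this.symm

theorem χ_inv {a : G} (ha : a ∈ Q') (haV : a ∈ centralizer (V : Set G)) : χ a⁻¹ = χ a := by
  have := D.χ_add a⁻¹ (inv_mem ha) (inv_mem haV) a ha haV
  rw [inv_mul_cancel, χ_one I D] at this
  rw [← neg_Φ I D (χ a)]
  exact eq_neg_of_add_eq_zero_left this.symm

/-- `χ` kills `V ∩ Q'` -/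
theorem χ_V {n : G} (hn : n ∈ Q') (hnV : n ∈ V) : χ n = 0 := by
  obtain ⟨y, hy, hp⟩ := I.p_surj 1
  have h1 := D.bil y hy n hn (I.V_CV hnV)
  rw [hp, one_smul] at h1
  rw [← h1]
  have h2 : n * y * n⁻¹ * y⁻¹ ∈ V := by
    have e : n * y * n⁻¹ * y⁻¹ = n * (y * n⁻¹ * y⁻¹) := by group
    rw [e]
    exact mul_mem hnV ((mem_normalizer_iff.1 (I.Q_NV hy) _).1 (inv_mem hnV))
  have h3 := comm_CQ I hn (I.V_CV hnV) hy
  obtain ⟨a, b, e⟩ := mem_E I h2 h3.1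
  exact (D.φ_ker _ h3.1 h3.2).2 ⟨a, b, e⟩

theorem φ_V {n : G} (hn : n ∈ Q) (hnV : n ∈ V) : φ n = 0 := by
  obtain ⟨a, b, e⟩ := mem_E I hnV hn
  exact (D.φ_ker _ hn (I.V_CV hnV)).2 ⟨a, b, e⟩

/-- elements of `C_Q(V)` congruent modulo `V` have the same image -/
theorem φ_congr {a a' z : G} (ha : a ∈ Q) (haV : a ∈ centralizer (V : Set G)) (ha' : a' ∈ Q)
    (haV' : a' ∈ centralizer (V : Set G)) (hz : z ∈ V) (e : a = z * a') : φ a = φ a' := by
  have hzQ : z ∈ Q := by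
    have : z = a * a'⁻¹ := by rw [e]; group
    rw [this]; exact mul_mem ha (inv_mem ha')
  rw [e, D.φ_add z hzQ (I.V_CV hz) a' ha' haV', φ_V I D hzQ hz, zero_add]

theorem χ_congr {a a' z : G} (ha : a ∈ Q') (haV : a ∈ centralizer (V : Set G)) (ha' : a' ∈ Q')
    (haV' : a' ∈ centralizer (V : Set G)) (hz : z ∈ V) (e : a = z * a') : χ a = χ a' := by
  have hzQ : z ∈ Q' := by
    have : z = a * a'⁻¹ := by rw [e]; group
    rw [this]; exact mul_mem ha (inv_mem ha')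
  rw [e, D.χ_add z hzQ (I.V_CV hz) a' ha' haV', χ_V I D hzQ hz, zero_add]

/-- `a b = z a' b'` with `a, a' ∈ C_Q(V)`, `b, b' ∈ C_{Q'}(V)`, `z ∈ V` -/
theorem φχ_congr {a a' b b' z : G} (ha : a ∈ Q) (haV : a ∈ centralizer (V : Set G)) (ha' : a' ∈ Q)
    (haV' : a' ∈ centralizer (V : Set G)) (hb : b ∈ Q') (hbV : b ∈ centralizer (V : Set G))
    (hb' : b' ∈ Q') (hbV' : b' ∈ centralizer (V : Set G)) (hz : z ∈ V) (e : a * b = z * (a' * b')) :
    φ a = φ a' ∧ χ b = χ b' := by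
  -- `a'⁻¹ z⁻¹ a = b' b⁻¹`
  obtain ⟨e1, he1, e2, he2, h1, h2, rfl⟩ := split_V I hz
  have hc : ∀ z ∈ V, ∀ c ∈ centralizer (V : Set G), z * c = c * z := fun z hz c hc =>
    mem_centralizer_iff.1 hc z hz
  -- `(e1 a')⁻¹ a = e2 b' b⁻¹`
  have e3 : (e1 * a')⁻¹ * a = e2 * b' * b⁻¹ := by
    have h3 : a = e1 * a' * (e2 * b' * b⁻¹) := by
      calc a = a * b * b⁻¹ := by group
        _ = e1 * (e2 * a') * b' * b⁻¹ := by rw [e]; group
        _ = e1 * (a' * e2) * b' * b⁻¹ := by rw [hc e2 h2 a' haV']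
        _ = _ := by group
    conv_lhs => rw [h3]
    group
  have h3 : (e1 * a')⁻¹ * a ∈ V := by
    refine meet_V I (mem_inf.2 ⟨mul_mem (inv_mem (mul_mem he1 ha')) ha, ?_⟩)
    rw [e3]
    exact mul_mem (mul_mem he2 hb') (inv_mem hb)
  constructor
  · have h4 : (e1 * a')⁻¹ * a * e1 ∈ V := mul_mem h3 h1
    refine φ_congr I D ha haV ha' haV' (z := e1 * ((e1 * a')⁻¹ * a)) (mul_mem h1 h3) ?_
    have h5 := hc _ h3 a' haV'
    calc a = e1 * (a' * ((e1 * a')⁻¹ * a)) := by group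
      _ = e1 * (((e1 * a')⁻¹ * a) * a') := by rw [h5]
      _ = _ := by group
  · rw [e3] at h3
    refine (χ_congr I D hb' hbV' hb hbV (z := e2⁻¹ * (e2 * b' * b⁻¹)) (mul_mem (inv_mem h2) h3) ?_).symm
    group

/-- the action on `O/V` -/
def OAct (V Q Q' : Subgroup G) (φ χ : G → Φ) (x : G) (A : Matrix (Fin 2) (Fin 2) F) : Prop :=
  ∀ a ∈ Q, a ∈ centralizer (V : Set G) → ∀ b ∈ Q', b ∈ centralizer (V : Set G) →
    ∃ a' ∈ Q, a' ∈ centralizer (V : Set G) ∧ ∃ b' ∈ Q', b' ∈ centralizer (V : Set G) ∧ ∃ z ∈ V,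
      x * (a * b) * x⁻¹ = z * (a' * b') ∧ φ a' = A 0 0 • φ a + A 0 1 • χ b ∧
      χ b' = A 1 0 • φ a + A 1 1 • χ b

omit I D in
theorem OAct.one : OAct V Q Q' φ χ (1 : G) (1 : Matrix (Fin 2) (Fin 2) F) := by
  intro a ha haV b hb hbV
  refine ⟨a, ha, haV, b, hb, hbV, 1, one_mem _, by group, ?_, ?_⟩ <;> simp

omit I D in
theorem OAct.mul {x y : G} {A B : Matrix (Fin 2) (Fin 2) F} (hx : OAct V Q Q' φ χ x A)
    (hy : OAct V Q Q' φ χ y B) (hxV : x ∈ normalizer (V : Set G)) :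
    OAct V Q Q' φ χ (x * y) (A * B) := by
  intro a ha haV b hb hbV
  obtain ⟨a', ha', haV', b', hb', hbV', z, hz, e, e1, e2⟩ := hy a ha haV b hb hbV
  obtain ⟨a'', ha'', haV'', b'', hb'', hbV'', z', hz', e', e1', e2'⟩ := hx a' ha' haV' b' hb' hbV'
  refine ⟨a'', ha'', haV'', b'', hb'', hbV'', (x * z * x⁻¹) * z',
    mul_mem ((mem_normalizer_iff.1 hxV _).1 hz) hz', ?_, ?_, ?_⟩
  · calc x * y * (a * b) * (x * y)⁻¹ = x * (y * (a * b) * y⁻¹) * x⁻¹ := by group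
      _ = (x * z * x⁻¹) * (x * (a' * b') * x⁻¹) := by rw [e]; group
      _ = _ := by rw [e']; group
  · rw [e1', e1, e2]
    simp only [Matrix.mul_apply, Fin.sum_univ_two, smul_add, add_smul, smul_smul]
    abel
  · rw [e2', e1, e2]
    simp only [Matrix.mul_apply, Fin.sum_univ_two, smul_add, add_smul, smul_smul]
    abel

/-- `y ∈ Q` -/
theorem OAct_Q {y : G} (hy : y ∈ Q) : OAct V Q Q' φ χ y !![1, p y; 0, 1] := by
  intro a ha haV b hb hbV
  obtain ⟨h1, h2⟩ := comm_CQ I hb hbV hy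
  have h3 := D.bil y hy b hb hbV
  set c := b * y * b⁻¹ * y⁻¹ with hc
  have h4 : y * a * y⁻¹ * a⁻¹ ∈ R := I.sp.comm y hy a ha
  refine ⟨a * c⁻¹, mul_mem ha (inv_mem h1), mul_mem haV (inv_mem h2), b, hb, hbV, _, I.R_V h4, ?_, ?_, ?_⟩
  · rw [hc]; group
  · rw [D.φ_add a ha haV _ (inv_mem h1) (inv_mem h2), φ_inv I D h1 h2, h3]
    simp
  · simp

end fld

section ext

variable {T : Quad k F} {S : Sylow 2 G} {V R Q Q' : Subgroup G} {v : k → F → k → G} {p p' : G → F}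
  {Φ : Type*} [AddCommGroup Φ] [Module F Φ] {φ χ : G → Φ}
  (I : GIn T S V R Q Q' v p p') (D : Fld T V R Q Q' v p φ χ) (Ex : Ext V R Q Q' p')
include I D Ex

/-- an element which maps `Q` to `Q'` -/
theorem exists_n {s : G} (hs : s ∈ Q ⊔ Q')
    (hsR : ∀ a, ∃ d, s * v a 0 0 * s⁻¹ = v 0 0 d) : ∀ y ∈ Q, s * y * s⁻¹ ∈ Q' := by
  obtain ⟨n, hn, hnQ⟩ := Ex.sw
  -- `C_V(Q') = {v 0 0 d}`
  have hC' : ∀ z ∈ V, (∀ y ∈ Q', y * z * y⁻¹ = z) → ∃ d, z = v 0 0 d := by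
    intro z hz h
    obtain ⟨a, b, d, rfl⟩ := I.v_surj z hz
    refine ⟨d, ?_⟩
    have h0 : ∀ l : F, T.sg l * algebraMap k F a = 0 ∧ T.tr (l * b) + T.nm l * a = 0 := by
      intro l
      obtain ⟨y, hy, hp⟩ := Ex.p'_surj l
      have h1 := h y hy
      rw [I.act' y hy, hp] at h1
      obtain ⟨-, h2, h3⟩ := I.v_eq h1
      constructor
      · exact left_eq_add.1 h2.symm
      · rw [add_assoc] at h3
        exact left_eq_add.1 h3.symm
    have ha : a = 0 := by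
      have := (h0 1).1
      rw [map_one, one_mul] at this
      exact (map_eq_zero (algebraMap k F)).1 this
    have hb : b = 0 := by
      apply T.eq_zero_of_tr I.h2
      intro l
      have := (h0 l).2
      rw [ha, mul_zero, add_zero] at this
      rwa [mul_comm]
    rw [ha, hb]
  -- `n R n⁻¹ ≤ {v 0 0 d}`; `n⁻¹ s` normalises `R`
  have hnV := X_NV I hn
  have hR' : ∀ d, ∀ y ∈ Q', y * v 0 0 d * y⁻¹ = v 0 0 d := by
    intro d y hy
    rw [I.act' y hy]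
    simp
  have h1 : ∀ r ∈ R, (n⁻¹ * s) * r * (n⁻¹ * s)⁻¹ ∈ R := by
    intro r hr
    obtain ⟨a, rfl⟩ := I.mem_R.1 hr
    obtain ⟨d, hd⟩ := hsR a
    have e : (n⁻¹ * s) * v a 0 0 * (n⁻¹ * s)⁻¹ = n⁻¹ * v 0 0 d * n := by
      rw [← hd]; group
    rw [e]
    -- it commutes with `Q`
    have hQ : n⁻¹ * v 0 0 d * n ∈ Q := by
      have h3 : n * (n⁻¹ * v 0 0 d * n) * n⁻¹ ∈ Q' := by
        have e2 : n * (n⁻¹ * v 0 0 d * n) * n⁻¹ = v 0 0 d := by group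
        rw [e2]; exact I.E'_le 0 d
      exact (hnQ _).2 h3
    refine I.sp.cent _ hQ fun y hy => ?_
    have h3 := hR' d _ ((hnQ y).1 hy)
    calc n⁻¹ * v 0 0 d * n * y = n⁻¹ * (v 0 0 d * (n * y * n⁻¹)) * n := by group
      _ = n⁻¹ * ((n * y * n⁻¹) * v 0 0 d * (n * y * n⁻¹)⁻¹ * (n * y * n⁻¹)) * n := by rw [h3]
      _ = y * (n⁻¹ * v 0 0 d * n) := by group
  have h2 : (n⁻¹ * s) ∈ normalizer (R : Set G) := by
    -- `R` is finite: use the bijection `R ≅ k`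
    have := T.fink
    have hfin : Finite R := by
      have hs : Function.Surjective (fun a : k => (⟨v a 0 0, I.sp.a_mem a⟩ : R)) := by
        rintro ⟨r, hr⟩
        obtain ⟨a, rfl⟩ := I.mem_R.1 hr
        exact ⟨a, rfl⟩
      exact Finite.of_surjective _ hs
    let f : R → R := fun r => ⟨(n⁻¹ * s) * r * (n⁻¹ * s)⁻¹, h1 r r.2⟩
    have hf : Function.Injective f := by
      intro r r' hrr
      have := congrArg Subtype.val hrr
      exact Subtype.ext (by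
        have e : (n⁻¹ * s) * (r : G) * (n⁻¹ * s)⁻¹ = (n⁻¹ * s) * r' * (n⁻¹ * s)⁻¹ := this
        exact mul_left_cancel (mul_right_cancel e))
    have hf' := Finite.surjective_of_injective hf
    rw [mem_normalizer_iff]
    intro r
    refine ⟨h1 r, fun hr => ?_⟩
    obtain ⟨r', hr'⟩ := hf' ⟨_, hr⟩
    have e : (n⁻¹ * s) * (r' : G) * (n⁻¹ * s)⁻¹ = (n⁻¹ * s) * r * (n⁻¹ * s)⁻¹ :=
      congrArg Subtype.val hr'
    have e2 : (r' : G) = r := mul_left_cancel (mul_right_cancel e)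
    rw [← e2]; exact r'.2
  intro y hy
  have h3 := I.nor _ h2 y hy
  have h4 := (hnQ _).1 h3
  have e : n * (n⁻¹ * s * y * (n⁻¹ * s)⁻¹) * n⁻¹ = s * y * s⁻¹ := by group
  rwa [e] at h4

/-- `y z y` with `p y = l⁻¹`, `p' z = l` maps `R` to `R'` -/
theorem swap_R {l : F} (hl : l ≠ 0)
    {y z : G} (hy : y ∈ Q) (hz : z ∈ Q') (hpy : p y = l⁻¹) (hpz : p' z = l) (a : k) :
    (y * z * y) * v a 0 0 * (y * z * y)⁻¹ = v 0 0 (T.nm l * a) := by
  have e : (y * z * y) * v a 0 0 * (y * z * y)⁻¹ = y * (z * (y * v a 0 0 * y⁻¹) * z⁻¹) * y⁻¹ := by group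
  have e1 : y * v a 0 0 * y⁻¹ = v a 0 0 := by rw [I.act y hy]; simp
  have e2 : z * v a 0 0 * z⁻¹ = v a (T.sg l * algebraMap k F a) (T.nm l * a) := by
    rw [I.act' z hz, hpz]; simp
  rw [e, e1, e2, I.act y hy, hpy]
  have hs : T.sg l ≠ 0 := T.sg_ne' hl
  congr 1
  · -- `a + tr(..) + nm(l⁻¹) nm(l) a = 0`
    have h1 : T.nm l⁻¹ * (T.nm l * a) = a := by
      rw [← mul_assoc, ← T.nm_mul, inv_mul_cancel₀ hl, T.nm_one, one_mul]
    have h2 : T.sg l⁻¹ * (T.sg l * algebraMap k F a) = algebraMap k F a := by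
      rw [map_inv₀, inv_mul_cancel_left₀ hs]
    rw [h1, h2, T.tr_alg I.h2, add_zero, T.add_selfk (h2 := I.h2)]
  · rw [map_mul, T.nm_eq]
    have : l⁻¹ * (l * T.sg l * algebraMap k F a) = T.sg l * algebraMap k F a := by
      rw [mul_assoc, inv_mul_cancel_left₀ hl]
    rw [this, T.add_self (h2 := I.h2)]

/-- **the other bilinearity**: `χ([z, a]) = p'(z) φ(a)` for `z ∈ Q'`, `a ∈ C_Q(V)` -/
theorem bil' {z a : G} (hz : z ∈ Q') (ha : a ∈ Q)
    (haV : a ∈ centralizer (V : Set G)) : χ (z * a * z⁻¹ * a⁻¹) = p' z • φ a := by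
  obtain ⟨hcQ, hcV⟩ := comm_CQ' I hz haV
  by_cases hl : p' z = 0
  · rw [hl, zero_smul]
    -- `z ∈ C(V)`
    have hzV : z ∈ centralizer (V : Set G) := by
      rw [mem_centralizer_iff]
      intro x hx
      obtain ⟨a', b, d, rfl⟩ := I.v_surj x hx
      have h1 := I.act' z hz a' b d
      rw [hl, map_zero, zero_mul, zero_mul, map_zero, T.nm_zero, zero_mul, add_zero, add_zero,
        add_zero] at h1
      calc v a' b d * z = (z * v a' b d * z⁻¹) * z := by rw [h1]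
        _ = z * v a' b d := by group
    refine χ_V I D hcQ (meet_V I (mem_inf.2 ⟨?_, hcQ⟩))
    exact mul_mem (CV_Q I hzV ha) (inv_mem ha)
  · obtain ⟨y, hy, hpy⟩ := I.p_surj (p' z)⁻¹
    have hsX : y * z * y ∈ Q ⊔ Q' :=
      mul_mem (mul_mem (mem_sup_left hy) (mem_sup_right hz)) (mem_sup_left hy)
    have hs := exists_n I D Ex hsX (fun a => ⟨_, swap_R I D Ex hl hy hz hpy rfl a⟩) a ha
    have hsV : (y * z * y) * a * (y * z * y)⁻¹ ∈ centralizer (V : Set G) :=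
      cen_conj I (X_NV I hsX) haV
    set c := z * a * z⁻¹ * a⁻¹ with hc
    -- `[c, y]`
    obtain ⟨h1, h2⟩ := comm_CQ I hcQ hcV hy
    have h3 := D.bil y hy c hcQ hcV
    rw [hpy] at h3
    set f := c * y * c⁻¹ * y⁻¹ with hf
    have h4 : y * a * y⁻¹ * a⁻¹ ∈ R := I.sp.comm y hy a ha
    set r := y * a * y⁻¹ * a⁻¹ with hr
    -- `s a s⁻¹ = (y z r z⁻¹ y⁻¹) f⁻¹ c r a`
    have e : (y * z * y) * a * (y * z * y)⁻¹ = (y * (z * r * z⁻¹) * y⁻¹) * (f⁻¹ * c * r * a) := by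
      rw [hf, hc, hr]; group
    have hrV := I.R_V h4
    have hz1 : y * (z * r * z⁻¹) * y⁻¹ ∈ V :=
      (mem_normalizer_iff.1 (I.Q_NV hy) _).1 ((mem_normalizer_iff.1 (Q'_NV I hz) _).1 hrV)
    -- `f⁻¹ c r a = r f⁻¹ (c a c⁻¹) c`
    have hcomm : ∀ z ∈ V, ∀ c ∈ centralizer (V : Set G), z * c = c * z := fun z hz c hc =>
      mem_centralizer_iff.1 hc z hz
    have e2 : f⁻¹ * c * r * a = r * (f⁻¹ * (c * a * c⁻¹) * c) := by
      have h5 := hcomm r hrV (f⁻¹ * c) (mul_mem (inv_mem h2) hcV)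
      calc f⁻¹ * c * r * a = (f⁻¹ * c * r) * a := by group
        _ = (r * (f⁻¹ * c)) * a := by rw [h5]
        _ = _ := by group
    rw [e2] at e
    have hca : c * a * c⁻¹ ∈ Q := CV_Q I hcV ha
    have hcaV : c * a * c⁻¹ ∈ centralizer (V : Set G) := mul_mem (mul_mem hcV haV) (inv_mem hcV)
    -- `1 * (s a s⁻¹) = z * (f⁻¹ (c a c⁻¹) * c)`
    obtain ⟨h5, -⟩ := φχ_congr I D (a := 1) (a' := f⁻¹ * (c * a * c⁻¹)) (b := (y * z * y) * a *
      (y * z * y)⁻¹) (b' := c) (z := (y * (z * r * z⁻¹) * y⁻¹) * r) (one_mem _) (one_mem _)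
      (mul_mem (inv_mem h1) hca) (mul_mem (inv_mem h2) hcaV) hs hsV hcQ hcV (mul_mem hz1 hrV)
      (by rw [one_mul, e]; group)
    rw [φ_one I D, D.φ_add _ (inv_mem h1) (inv_mem h2) _ hca hcaV, φ_inv I D h1 h2, h3] at h5
    -- `φ (c a c⁻¹) = φ a`
    have h6 : φ (c * a * c⁻¹) = φ a := by
      have h7 : c * a * c⁻¹ * a⁻¹ ∈ V := by
        refine meet_V I (mem_inf.2 ⟨mul_mem hca (inv_mem ha), ?_⟩)
        have e3 : c * a * c⁻¹ * a⁻¹ = c * (a * c⁻¹ * a⁻¹) := by group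
        rw [e3]
        exact mul_mem hcQ (CV_Q' I haV (inv_mem hcQ))
      exact φ_congr I D hca hcaV ha haV h7 (by group)
    rw [h6] at h5
    have h7 : φ a = (p' z)⁻¹ • χ c := by
      have := neg_Φ I D (φ a)
      rw [← this]
      exact neg_eq_of_add_eq_zero_left h5.symm
    rw [h7, smul_smul, mul_inv_cancel₀ hl, one_smul]

/-- `z ∈ Q'` -/
theorem OAct_Q' {z : G} (hz : z ∈ Q') :
    OAct V Q Q' φ χ z !![1, 0; p' z, 1] := by
  intro a ha haV b hb hbV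
  obtain ⟨h1, h2⟩ := comm_CQ' I hz haV
  have h3 := bil' I D Ex hz ha haV
  set c := z * a * z⁻¹ * a⁻¹ with hc
  obtain ⟨d, hd⟩ := I.comm' z hz b hb
  have hcomm : ∀ z ∈ V, ∀ c ∈ centralizer (V : Set G), z * c = c * z := fun z hz c hc =>
    mem_centralizer_iff.1 hc z hz
  have hdV := I.v_mem 0 0 d
  -- `[c, a] ∈ V`
  have h4 : c * a * c⁻¹ * a⁻¹ ∈ V := by
    refine meet_V I (mem_inf.2 ⟨mul_mem (CV_Q I h2 ha) (inv_mem ha), ?_⟩)
    have e3 : c * a * c⁻¹ * a⁻¹ = c * (a * c⁻¹ * a⁻¹) := by group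
    rw [e3]
    exact mul_mem h1 (CV_Q' I haV (inv_mem h1))
  refine ⟨a, ha, haV, c * b, mul_mem h1 hb, mul_mem h2 hbV, (c * a * c⁻¹ * a⁻¹) * v 0 0 d,
    mul_mem h4 hdV, ?_, ?_, ?_⟩
  · have h5 := hcomm _ hdV (c * a) (mul_mem h2 haV)
    have h6 := hcomm _ hdV (a * c) (mul_mem haV h2)
    calc z * (a * b) * z⁻¹ = (c * a) * ((z * b * z⁻¹ * b⁻¹) * b) := by rw [hc]; group
      _ = (c * a) * v 0 0 d * b := by rw [hd]; group
      _ = (c * a * c⁻¹ * a⁻¹) * ((a * c) * v 0 0 d) * b := by group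
      _ = (c * a * c⁻¹ * a⁻¹) * (v 0 0 d * (a * c)) * b := by rw [h6]
      _ = _ := by group
  · simp
  · rw [D.χ_add _ h1 h2 _ hb hbV, h3]
    simp

/-- **Every element of `X` has a matrix.** -/
theorem exists_mat [Finite G] {x : G} (hx : x ∈ Q ⊔ Q') :
    ∃ A : Matrix (Fin 2) (Fin 2) F, A.det = 1 ∧ VAct T v x A ∧ OAct V Q Q' φ χ x A := by
  -- the submonoid of `x ∈ N(V)` with such a matrix is a group
  let M : Submonoid G :=
    { carrier := {x | x ∈ normalizer (V : Set G) ∧ ∃ A : Matrix (Fin 2) (Fin 2) F,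
        A.det = 1 ∧ VAct T v x A ∧ OAct V Q Q' φ χ x A}
      one_mem' := ⟨one_mem _, 1, Matrix.det_one, VAct.one, OAct.one⟩
      mul_mem' := by
        rintro x y ⟨hx, A, hA, hA1, hA2⟩ ⟨hy, B, hB, hB1, hB2⟩
        exact ⟨mul_mem hx hy, A * B, by rw [Matrix.det_mul, hA, hB, one_mul], hA1.mul hB1,
          hA2.mul hB2 hx⟩ }
  let H : Subgroup G :=
    { M with
      inv_mem' := by
        intro x hx
        have h1 : x ^ (orderOf x - 1) ∈ M := pow_mem hx _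
        have h2 : x⁻¹ = x ^ (orderOf x - 1) := by
          rw [inv_eq_iff_mul_eq_one, ← pow_succ', Nat.sub_add_cancel (orderOf_pos x), pow_orderOf_eq_one]
        rw [h2]
        exact h1 }
  have hQ : Q ≤ H := fun y hy => ⟨I.Q_NV hy, _, by simp [Matrix.det_fin_two], VAct_Q I hy, OAct_Q I D hy⟩
  have hQ' : Q' ≤ H := fun y hy =>
    ⟨Q'_NV I hy, _, by simp [Matrix.det_fin_two], VAct_Q' I hy, OAct_Q' I D Ex hy⟩
  have h1 : Q ⊔ Q' ≤ H := sup_le hQ hQ'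
  exact (h1 hx).2

end ext

end Cfsg.Agent.RankTwoClose.XSide
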