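import Cfsg.Agent.RankTwoClose.XSide.Main

/-!
# The group `X = ⟨Q, Q'⟩` (type beta): the points, the reflection `m₀`
-/

set_option autoImplicit false
set_option linter.unusedSectionVars false

open Subgroup

namespace Cfsg.Agent.RankTwoClose.XSide

open Cfsg.Agent.Omega.NOne.SU Cfsg.Agent.RankTwoClose.UFour

variable {G : Type*} [Group G] {k F : Type*} [Field k] [Field F] [Algebra k F]

/-- The reflection. -/
structure Mz (T : Quad k F) (v : k → F → k → G) (Q Q' : Subgroup G) (m₀ : G) : Prop where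
  mem : m₀ ∈ Q ⊔ Q'
  act : ∀ a b d, m₀ * v a b d * m₀⁻¹ = v d (T.sg b) a

section gin

variable {T : Quad k F} {S : Sylow 2 G} {V R Q Q' : Subgroup G} {v : k → F → k → G} {p p' : G → F}
  (I : GIn T S V R Q Q' v p p')

theorem exists_mz (I : GIn T S V R Q Q' v p p') (Ex : Ext V R Q Q' p') : ∃ m₀, Mz T v Q Q' m₀ := by
  obtain ⟨y, hy, hpy⟩ := I.p_surj 1
  obtain ⟨z, hz, hpz⟩ := Ex.p'_surj 1
  refine ⟨y * z * y, mul_mem (mul_mem (mem_sup_left hy) (mem_sup_right hz)) (mem_sup_left hy), ?_⟩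
  intro a b d
  have h1 := ((VAct_Q I hy).mul (VAct_Q' I hz)).mul (VAct_Q I hy)
  obtain ⟨a', b', d', e1, e2⟩ := h1 a b d
  rw [e1]
  rw [hpy, hpz] at e2
  unfold mu st at e2
  have h2 := I.h2
  have two := T.twoF h2
  have e3 := congrFun (congrFun e2 0) 0
  have e4 := congrFun (congrFun e2 0) 1
  have e5 := congrFun (congrFun e2 1) 1
  have o2 : (1 : F) + 1 = 0 := T.add_self (h2 := h2) 1
  simp [Matrix.mul_apply, Fin.sum_univ_two, o2] at e3 e4 e5
  rw [e3, e4, e5]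

variable {m₀ : G} (M : Mz T v Q Q' m₀)
include I M

theorem Mz.inv_act (a : k) (b : F) (d : k) : m₀⁻¹ * v a b d * m₀ = v d (T.sg b) a := by
  have _ := I.h2
  have h := M.act d (T.sg b) a
  rw [T.sg_sg] at h
  rw [← h]; group

theorem Mz.NV : m₀ ∈ normalizer (V : Set G) := X_NV I M.mem

/-- `m₀² ∈ C(V)` -/
theorem Mz.sq : m₀ * m₀ ∈ centralizer (V : Set G) := by
  rw [mem_centralizer_iff]
  intro z hz
  obtain ⟨a, b, d, rfl⟩ := I.v_surj z hz
  have h1 : (m₀ * m₀) * v a b d * (m₀ * m₀)⁻¹ = v a b d := by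
    calc (m₀ * m₀) * v a b d * (m₀ * m₀)⁻¹ = m₀ * (m₀ * v a b d * m₀⁻¹) * m₀⁻¹ := by group
      _ = v a b d := by rw [M.act, M.act, T.sg_sg]
  calc v a b d * (m₀ * m₀) = (m₀ * m₀) * v a b d * (m₀ * m₀)⁻¹ * (m₀ * m₀) := by rw [h1]
    _ = _ := by group

/-- `m₀` does not normalise `R` -/
theorem Mz.not_NR : m₀ ∉ normalizer (R : Set G) := by
  intro h
  have h1 := (mem_normalizer_iff.1 h _).1 (I.sp.a_mem 1)
  rw [M.act] at h1
  obtain ⟨a, e⟩ := I.mem_R.1 h1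
  exact one_ne_zero (I.v_eq e).2.2

omit M in
/-- the normaliser of `R` in `N(V)`, elementwise -/
theorem mem_NR_of {x : G} (h : ∀ a, ∃ a', x * v a 0 0 * x⁻¹ = v a' 0 0) : x ∈ normalizer (R : Set G) := by
  have := T.fink
  have h1 : ∀ r ∈ R, x * r * x⁻¹ ∈ R := by
    intro r hr
    obtain ⟨a, rfl⟩ := I.mem_R.1 hr
    obtain ⟨a', e⟩ := h a
    rw [e]; exact I.sp.a_mem a'
  have hfin : Finite R := by
    have hs : Function.Surjective (fun a : k => (⟨v a 0 0, I.sp.a_mem a⟩ : R)) := by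
      rintro ⟨r, hr⟩
      obtain ⟨a, rfl⟩ := I.mem_R.1 hr
      exact ⟨a, rfl⟩
    exact Finite.of_surjective _ hs
  let f : R → R := fun r => ⟨x * r * x⁻¹, h1 r r.2⟩
  have hf : Function.Injective f := by
    intro r r' hrr
    have e : x * (r : G) * x⁻¹ = x * r' * x⁻¹ := congrArg Subtype.val hrr
    exact Subtype.ext (mul_left_cancel (mul_right_cancel e))
  have hf' := Finite.surjective_of_injective hf
  rw [mem_normalizer_iff]
  intro r
  refine ⟨h1 r, fun hr => ?_⟩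
  obtain ⟨r', hr'⟩ := hf' ⟨_, hr⟩
  have e : x * (r' : G) * x⁻¹ = x * r * x⁻¹ := congrArg Subtype.val hr'
  have e2 : (r' : G) = r := mul_left_cancel (mul_right_cancel e)
  rw [← e2]; exact r'.2

omit M in
/-- `C_V(Q) = R` -/
theorem CVQ {z : G} (hz : z ∈ V) (h : ∀ y ∈ Q, y * z = z * y) : z ∈ R := by
  obtain ⟨a, b, d, rfl⟩ := I.v_surj z hz
  have h0 : ∀ l : F, T.tr (T.sg l * b) + T.nm l * d = 0 ∧ l * algebraMap k F d = 0 := by
    intro l
    obtain ⟨y, hy, hp⟩ := I.p_surj l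
    have h1 : y * v a b d * y⁻¹ = v a b d := by rw [h y hy]; group
    rw [I.act y hy, hp] at h1
    obtain ⟨h2, h3, -⟩ := I.v_eq h1
    constructor
    · rw [add_assoc] at h2
      exact left_eq_add.1 h2.symm
    · exact left_eq_add.1 h3.symm
  have hd : d = 0 := by
    have := (h0 1).2
    rw [one_mul] at this
    exact (map_eq_zero (algebraMap k F)).1 this
  have hb : b = 0 := by
    apply T.eq_zero_of_tr I.h2
    intro l
    have := (h0 (T.sg l)).1
    rw [hd, mul_zero, add_zero, T.sg_sg] at this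
    rwa [mul_comm]
  rw [hb, hd]
  exact I.sp.a_mem a

omit M in
/-- an element of `N(V)` which normalises `UX` normalises `R` -/
theorem NR_of_UX {x : G} (hxV : x ∈ normalizer (V : Set G)) (hx : cj x (UX V Q Q') = UX V Q Q') :
    x ∈ normalizer (R : Set G) := by
  -- `R = C_V(UX)`
  have hR : ∀ z, z ∈ R ↔ z ∈ V ∧ ∀ u ∈ UX V Q Q', u * z = z * u := by
    intro z
    constructor
    · intro hz
      refine ⟨I.R_V hz, fun u hu => ?_⟩
      obtain ⟨y, hy, b, hb, rfl⟩ := (mem_UX I).1 hu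
      have h1 := I.sp.cen z hz y hy
      have h2 := mem_centralizer_iff.1 (mem_inf.1 hb).2 z (I.R_V hz)
      rw [mul_assoc, ← h2, ← mul_assoc, ← h1, mul_assoc]
    · rintro ⟨hz, h⟩
      exact CVQ I hz fun y hy => h y (mem_sup_left hy)
  have key : ∀ x ∈ normalizer (V : Set G), cj x (UX V Q Q') = UX V Q Q' → ∀ z ∈ R, x * z * x⁻¹ ∈ R := by
    intro x hxV hx z hz
    obtain ⟨h1, h2⟩ := (hR z).1 hz
    refine (hR _).2 ⟨(mem_normalizer_iff.1 hxV _).1 h1, fun u hu => ?_⟩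
    rw [← hx, mem_cj] at hu
    have h3 := h2 _ hu
    calc u * (x * z * x⁻¹) = x * ((x⁻¹ * u * x) * z) * x⁻¹ := by group
      _ = x * (z * (x⁻¹ * u * x)) * x⁻¹ := by rw [h3]
      _ = x * z * x⁻¹ * u := by group
  rw [mem_normalizer_iff]
  intro z
  refine ⟨key x hxV hx z, fun hz => ?_⟩
  have hx' : cj x⁻¹ (UX V Q Q') = UX V Q Q' := by
    have := congrArg (cj x⁻¹) hx
    rw [cj_inv_cj] at this
    exact this.symm
  have := key x⁻¹ (inv_mem hxV) hx' _ hz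
  rwa [show x⁻¹ * (x * z * x⁻¹) * x⁻¹⁻¹ = z by group] at this

end gin

section fld

variable {T : Quad k F} {S : Sylow 2 G} {V R Q Q' : Subgroup G} {v : k → F → k → G} {p p' : G → F}
  {Φ : Type*} [AddCommGroup Φ] [Module F Φ] {φ χ : G → Φ} [Finite G]
  (I : GIn T S V R Q Q' v p p') (D : Fld T V R Q Q' v p φ χ) (Ex : Ext V R Q Q' p')
include I D Ex

/-- `N_X(R)` normalises `UX` -/
theorem UX_of_NR {x : G} (hx : x ∈ Q ⊔ Q') (hR : x ∈ normalizer (R : Set G)) :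
    cj x (UX V Q Q') = UX V Q Q' := by
  have h1 : UX V Q Q' = Q ⊔ OX V Q Q' := by
    refine le_antisymm (sup_le_sup_left le_sup_right _) (sup_le le_sup_left (OX_le_UX I))
  have hQ : cj x Q = Q := by
    rw [← mem_norm_iff, mem_normalizer_iff]
    intro y
    refine ⟨I.nor x hR y, fun h => ?_⟩
    have := I.nor x⁻¹ (inv_mem hR) _ h
    rwa [show x⁻¹ * (x * y * x⁻¹) * x⁻¹⁻¹ = y by group] at this
  rw [h1, cj_sup, hQ, mem_norm_iff.1 (X_OX I D Ex hx)]

theorem UX_iff {x : G} (hx : x ∈ Q ⊔ Q') :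
    cj x (UX V Q Q') = UX V Q Q' ↔ x ∈ normalizer (R : Set G) :=
  ⟨NR_of_UX I (X_NV I hx), UX_of_NR I D Ex hx⟩

variable {m₀ : G} (M : Mz T v Q Q' m₀)
include M

/-- **the positions**: `x ∈ X` either normalises `R` or is in `Q m₀ N_X(R)` -/
theorem pos {x : G} (hx : x ∈ Q ⊔ Q') :
    x ∈ normalizer (R : Set G) ∨ ∃ y ∈ Q, ∃ x' ∈ Q ⊔ Q', x' ∈ normalizer (R : Set G) ∧ x = y * m₀ * x' := by
  obtain ⟨A, hA, hA1, -⟩ := exists_mat I D Ex hx
  -- the action on `R`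
  have key : ∀ a, x * v a 0 0 * x⁻¹ = v (T.nm (A 0 0) * a) (A 0 0 * T.sg (A 1 0) * algebraMap k F a)
      (T.nm (A 1 0) * a) := by
    intro a
    obtain ⟨a', b', d', e1, e2⟩ := hA1 a 0 0
    rw [e1]
    unfold mu st at e2
    have e3 := congrFun (congrFun e2 0) 0
    have e4 := congrFun (congrFun e2 0) 1
    have e5 := congrFun (congrFun e2 1) 1
    simp [Matrix.mul_apply, Fin.sum_univ_two] at e3 e4 e5
    congr 1
    · apply T.alg_inj'
      rw [e3, map_mul, T.nm_eq]; ring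
    · rw [e4]; ring
    · apply T.alg_inj'
      rw [e5, map_mul, T.nm_eq]; ring
  by_cases hγ : A 1 0 = 0
  · left
    refine mem_NR_of I fun a => ⟨T.nm (A 0 0) * a, ?_⟩
    rw [key, hγ, map_zero, mul_zero, zero_mul, T.nm_zero, zero_mul]
  · right
    obtain ⟨y, hy, hpy⟩ := I.p_surj (A 0 0 / A 1 0)
    refine ⟨y⁻¹, inv_mem hy, m₀⁻¹ * (y * x), mul_mem (inv_mem M.mem) (mul_mem (mem_sup_left hy) hx), ?_,
      by group⟩
    refine mem_NR_of I fun a => ⟨T.nm (A 1 0) * a, ?_⟩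
    have hs : T.sg (A 1 0) ≠ 0 := T.sg_ne' hγ
    have e1 : y * (x * v a 0 0 * x⁻¹) * y⁻¹ = v 0 0 (T.nm (A 1 0) * a) := by
      rw [key, I.act y hy, hpy]
      congr 1
      · have h1 : T.sg (A 0 0 / A 1 0) * (A 0 0 * T.sg (A 1 0) * algebraMap k F a) =
            algebraMap k F (T.nm (A 0 0) * a) := by
          rw [map_div₀, map_mul, T.nm_eq]
          field_simp
        have h2 : T.nm (A 0 0 / A 1 0) * (T.nm (A 1 0) * a) = T.nm (A 0 0) * a := by
          rw [← mul_assoc, ← T.nm_mul, div_mul_cancel₀ _ hγ]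
        rw [h1, h2, T.tr_alg I.h2, add_zero, T.add_selfk (h2 := I.h2)]
      · have h1 : A 0 0 / A 1 0 * algebraMap k F (T.nm (A 1 0) * a) =
            A 0 0 * T.sg (A 1 0) * algebraMap k F a := by
          rw [map_mul, T.nm_eq]
          field_simp
        rw [h1, T.add_self (h2 := I.h2)]
    have e2 : m₀⁻¹ * (y * x) * v a 0 0 * (m₀⁻¹ * (y * x))⁻¹ = m₀⁻¹ * (y * (x * v a 0 0 * x⁻¹) * y⁻¹) * m₀ := by
      group
    rw [e2, e1, M.inv_act I, map_zero]

/-- `X` moves `UX`: the form of `x` -/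
theorem form_of {x : G} (hx : x ∈ Q ⊔ Q') (hne : cj x (UX V Q Q') ≠ UX V Q Q') :
    ∃ y ∈ Q, ∃ x' ∈ Q ⊔ Q', x' ∈ normalizer (R : Set G) ∧ x = y * m₀ * x' := by
  rcases pos I D Ex M hx with h | h
  · exact absurd (UX_of_NR I D Ex hx h) hne
  · exact h

theorem m₀_ne : cj m₀ (UX V Q Q') ≠ UX V Q Q' := fun h =>
  M.not_NR I (NR_of_UX I (M.NV I) h)

/-- `m₀ Q m₀⁻¹ ≤ Q'` -/
theorem m₀_Q : ∀ y ∈ Q, m₀ * y * m₀⁻¹ ∈ Q' :=
  exists_n I D Ex M.mem fun a => ⟨a, by rw [M.act, map_zero]⟩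

end fld

end Cfsg.Agent.RankTwoClose.XSide
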